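import Cfsg.Agent.CharP.NaturalSL2
import Mathlib.GroupTheory.Sylow
import Mathlib.Algebra.Ring.Equiv

/-!
`SL₂(F)` as a group of additive permutations of `F × F`; elementary facts on the normalizer of its root group.
-/

set_option autoImplicit false
set_option linter.unusedSectionVars false

namespace CfsgLib.NatEmbed

open Equiv Subgroup

variable {F : Type*} [Field F]

theorem apply_inv_eq {g : Perm (F × F)} (v : F × F) : g (g⁻¹ v) = v := by simp

theorem inv_apply_eq {g : Perm (F × F)} (v : F × F) : g⁻¹ (g v) = v := by simp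

/-- The map of a matrix on pairs. -/
def linFun (A : ZJ.SL2 F) (v : F × F) : F × F :=
  (A 0 0 * v.1 + A 0 1 * v.2, A 1 0 * v.1 + A 1 1 * v.2)

theorem linFun_mul (A B : ZJ.SL2 F) (v : F × F) : linFun (A * B) v = linFun A (linFun B v) := by
  simp only [linFun, ZJ.sl2_mul]
  refine Prod.ext ?_ ?_ <;> ring

theorem linFun_one (v : F × F) : linFun (1 : ZJ.SL2 F) v = v := by simp [linFun]

/-- `SL₂(F)` on pairs. -/
def lin : ZJ.SL2 F →* Perm (F × F) where
  toFun A :=
    { toFun := linFun A
      invFun := linFun A⁻¹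
      left_inv := fun v => by rw [← linFun_mul, inv_mul_cancel, linFun_one]
      right_inv := fun v => by rw [← linFun_mul, mul_inv_cancel, linFun_one] }
  map_one' := Equiv.ext linFun_one
  map_mul' A B := Equiv.ext (linFun_mul A B)

theorem lin_apply (A : ZJ.SL2 F) (v : F × F) :
    lin A v = (A 0 0 * v.1 + A 0 1 * v.2, A 1 0 * v.1 + A 1 1 * v.2) := rfl

theorem lin_injective : Function.Injective (lin : ZJ.SL2 F → Perm (F × F)) := by
  intro A B h
  have h0 := congrArg (fun g : Perm (F × F) => g (1, 0)) h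
  have h1 := congrArg (fun g : Perm (F × F) => g (0, 1)) h
  simp only [lin_apply, mul_one, mul_zero, add_zero, zero_add, Prod.mk.injEq] at h0 h1
  exact ZJ.sl2_ext h0.1 h1.1 h0.2 h1.2

/-- The root element with parameter `a`. -/
def up (a : F) : Perm (F × F) := lin (ZJ.upper a)

theorem up_apply (a : F) (v : F × F) : up a v = (v.1 + a * v.2, v.2) := by
  simp [up, lin_apply]

theorem up_mul (a b : F) : up a * up b = up (a + b) := by
  rw [up, up, ← map_mul, ZJ.upper_mul]; rfl

theorem up_zero : up (0 : F) = 1 := by rw [up, ZJ.upper_zero, map_one]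

theorem up_injective : Function.Injective (up : F → Perm (F × F)) := by
  intro a b h
  have := congrArg (fun g : Perm (F × F) => (g (0, 1)).1) h
  simpa [up_apply] using this

theorem up_eq_one {a : F} : up a = 1 ↔ a = 0 := by
  rw [← up_zero]; exact up_injective.eq_iff

theorem up_inv (a : F) : (up a)⁻¹ = up (-a) := by
  apply inv_eq_of_mul_eq_one_right
  rw [up_mul, add_neg_cancel, up_zero]

theorem up_fix {a : F} (ha : a ≠ 0) {v : F × F} : up a v = v ↔ v.2 = 0 := by
  constructor
  · intro h
    have h1 := congrArg Prod.fst h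
    simp only [up_apply] at h1
    simpa [ha] using h1
  · intro h
    rw [up_apply, h, mul_zero, add_zero]
    exact Prod.ext rfl h.symm

/-- The root elements as a homomorphism. -/
def upHom : Multiplicative F →* Perm (F × F) where
  toFun a := up a.toAdd
  map_one' := up_zero
  map_mul' a b := (up_mul _ _).symm

/-- The root group. -/
def U0 (F : Type*) [Field F] : Subgroup (Perm (F × F)) := (upHom (F := F)).range

theorem mem_U0 {x : Perm (F × F)} : x ∈ U0 F ↔ ∃ a : F, up a = x :=
  ⟨fun ⟨a, h⟩ => ⟨a.toAdd, h⟩, fun ⟨a, h⟩ => ⟨Multiplicative.ofAdd a, h⟩⟩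

theorem up_mem (a : F) : up a ∈ U0 F := mem_U0.2 ⟨a, rfl⟩

theorem fix_of_mem_U0 {x : Perm (F × F)} (hx : x ∈ U0 F) (t : F) : x (t, 0) = (t, 0) := by
  obtain ⟨a, rfl⟩ := mem_U0.1 hx
  simp [up_apply]

/-- The generators of `SL₂`. -/
theorem sl2_gen (A : ZJ.SL2 F) (S : Subgroup (ZJ.SL2 F)) (hu : ∀ a, ZJ.upper a ∈ S)
    (hl : ∀ a, ZJ.lower a ∈ S) : A ∈ S := by
  have main : ∀ B : ZJ.SL2 F, B 1 0 ≠ 0 → B ∈ S := by
    intro B hc
    have hd := ZJ.sl2_det B
    have e : B = ZJ.upper ((B 0 0 - 1) / B 1 0) * ZJ.lower (B 1 0) *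
        ZJ.upper ((B 1 1 - 1) / B 1 0) := by
      apply ZJ.sl2_ext <;>
        simp only [ZJ.sl2_mul, ZJ.upper_00, ZJ.upper_01, ZJ.upper_10, ZJ.upper_11,
          ZJ.lower_00, ZJ.lower_01, ZJ.lower_10, ZJ.lower_11] <;>
        field_simp
      · ring
      · linear_combination -hd
      · ring
      · ring
    rw [e]
    exact mul_mem (mul_mem (hu _) (hl _)) (hu _)
  by_cases hc : A 1 0 = 0
  · have hd := ZJ.sl2_det A
    have h0 : A 0 0 ≠ 0 := by
      intro h0
      rw [h0, hc] at hd
      simp at hd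
    have h1 : (ZJ.lower 1 * A : ZJ.SL2 F) 1 0 ≠ 0 := by
      rw [ZJ.sl2_mul, ZJ.lower_10, ZJ.lower_11, hc]
      simpa using h0
    exact (Subgroup.mul_mem_cancel_left S (hl 1)).1 (main _ h1)
  · exact main A hc

/-- Semilinearity in the flag. -/
def Semi (g : Perm (F × F)) (σ : F ≃+* F) (d e : F) : Prop :=
  d ≠ 0 ∧ e ≠ 0 ∧ (∀ t : F, g (t, 0) = (d * σ t, 0)) ∧ ∀ t y : F, (g (t, y)).2 = e * σ y

/-- Additivity of a permutation of the pairs. -/
def IsAdd (g : Perm (F × F)) : Prop := ∀ v w : F × F, g (v + w) = g v + g w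

theorem IsAdd.map_zero {g : Perm (F × F)} (hg : IsAdd g) : g 0 = 0 := by
  have h := hg 0 0
  rw [add_zero] at h
  exact left_eq_add.1 h

theorem IsAdd.split {g : Perm (F × F)} (hg : IsAdd g) (t y : F) : g (t, y) = g (t, 0) + g (0, y) := by
  rw [← hg]; simp

/-- An additive permutation normalizing the root group is semilinear in the flag. -/
theorem exists_semi [Finite F] {g : Perm (F × F)} (hg : IsAdd g)
    (hn : ∀ a : F, g * up a * g⁻¹ ∈ U0 F) : ∃ σ d e, Semi g σ d e := by
  choose θ hθ using fun a => mem_U0.1 (hn a)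
  have hθ1 : θ 1 ≠ 0 := by
    intro h
    have h1 := hθ 1
    rw [h, up_zero] at h1
    have h2 : g * up 1 * g⁻¹ = g * 1 * g⁻¹ := by rw [← h1]; simp
    exact one_ne_zero (up_eq_one.1 (mul_left_cancel (mul_right_cancel h2)))
  have hcomm : ∀ a v, g (up a v) = up (θ a) (g v) := by
    intro a v
    have := congrArg (fun f : Perm (F × F) => f (g v)) (hθ a)
    simpa using this.symm
  have hW : ∀ t, (g (t, 0)).2 = 0 := by
    intro t
    have h1 := hcomm 1 (t, 0)
    rw [(up_fix one_ne_zero).2 rfl] at h1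
    exact (up_fix hθ1).1 h1.symm
  set α : F → F := fun y => (g (0, y)).2 with hα
  set β : F → F := fun t => (g (t, 0)).1 with hβ
  have hbt : ∀ t, g (t, 0) = (β t, 0) := fun t => Prod.ext rfl (hW t)
  have hrel : ∀ a y, β (a * y) = θ a * α y := by
    intro a y
    have h1 := hcomm a (0, y)
    rw [up_apply, up_apply, hg.split] at h1
    have h2 := congrArg Prod.fst h1
    simp only [Prod.fst_add, zero_add] at h2
    linear_combination h2
  have hsnd : ∀ t y, (g (t, y)).2 = α y := fun t y => by
    rw [hg.split]; simp [hW, hα]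
  have hαinj : Function.Injective α := by
    have hsurj : Function.Surjective α := by
      intro z
      refine ⟨(g⁻¹ (0, z)).2, ?_⟩
      rw [← hsnd (g⁻¹ (0, z)).1]
      simp
    exact Finite.injective_iff_surjective.2 hsurj
  have hαadd : ∀ y z, α (y + z) = α y + α z := fun y z => by
    have := hg (0, y) (0, z)
    simp only [Prod.mk_add_mk, add_zero] at this
    simp [hα, this]
  have hα0 : α 0 = 0 := by
    have := hαadd 0 0
    rw [add_zero] at this
    exact left_eq_add.1 this
  have he : α 1 ≠ 0 := fun h => one_ne_zero (hαinj (h.trans hα0.symm))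
  have hkey : ∀ a y, θ 1 * α (a * y) = θ a * α y := fun a y => by
    rw [← hrel a y, ← hrel 1 (a * y), one_mul]
  set s : F → F := fun y => α y / α 1 with hs
  have hsθ : ∀ a, θ a = θ 1 * s a := by
    intro a
    have := hkey a 1
    rw [mul_one] at this
    rw [hs]
    field_simp
    linear_combination -this
  have hmul : ∀ a y, s (a * y) = s a * s y := by
    intro a y
    have h1 := hkey a y
    rw [hsθ a] at h1
    have h2 : α (a * y) = s a * α y := mul_left_cancel₀ hθ1 (by linear_combination h1)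
    simp only [hs] at h2 ⊢
    rw [h2]
    field_simp
  have hsinj : Function.Injective s := fun a b h => hαinj (by
    simp only [hs] at h
    exact (div_left_inj' he).1 h)
  refine ⟨RingEquiv.ofBijective
    ({ toFun := s
       map_one' := by simp [hs, he]
       map_mul' := hmul
       map_zero' := by simp [hs, hα0]
       map_add' := fun a b => by simp only [hs, hαadd]; ring } : F →+* F)
    ⟨hsinj, Finite.injective_iff_surjective.1 hsinj⟩, θ 1 * α 1, α 1,
    mul_ne_zero hθ1 he, he, fun t => ?_, fun t y => ?_⟩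
  · refine (hbt t).trans (Prod.ext ?_ rfl)
    have := hrel t 1
    rw [mul_one] at this
    show β t = θ 1 * α 1 * s t
    rw [this, hsθ t]
    ring
  · show (g (t, y)).2 = α 1 * s y
    rw [hsnd]
    simp only [hs]
    field_simp

theorem Semi.stab {g : Perm (F × F)} {σ : F ≃+* F} {d e : F} (h : Semi g σ d e) (t : F) :
    (g (t, 0)).2 = 0 := by rw [h.2.2.1 t]

theorem Semi.pow_fst {g : Perm (F × F)} {d e : F} (h : Semi g (RingEquiv.refl F) d e) (n : ℕ) (t : F) :
    (g ^ n) (t, 0) = (d ^ n * t, 0) := by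
  induction n with
  | zero => simp
  | succ n ih =>
    rw [pow_succ', Perm.mul_apply, ih, h.2.2.1]
    simp [pow_succ']
    ring

theorem Semi.pow_snd {g : Perm (F × F)} {d e : F} (h : Semi g (RingEquiv.refl F) d e) (n : ℕ) (t y : F) :
    ((g ^ n) (t, y)).2 = e ^ n * y := by
  induction n with
  | zero => simp
  | succ n ih =>
    rw [pow_succ', Perm.mul_apply]
    rcases hab : (g ^ n) (t, y) with ⟨a, b⟩
    simp only [hab] at ih
    rw [h.2.2.2 a b, ih]
    simp [pow_succ']
    ring

theorem Semi.sq_eq_one {g : Perm (F × F)} {σ : F ≃+* F} {d e : F} (h : Semi g σ d e) (hg : g * g = 1)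
    (y : F) : σ (σ y) = y := by
  have key : ∀ y, e * σ (e * σ y) = y := by
    intro y
    have h1 := congrArg (fun f : Perm (F × F) => (f (0, y)).2) hg
    simp only [Perm.mul_apply, Perm.one_apply] at h1
    rcases hab : g (0, y) with ⟨a, b⟩
    have hb := h.2.2.2 0 y
    simp only [hab] at h1 hb
    rw [h.2.2.2 a b, hb] at h1
    exact h1
  have h1 := key 1
  have h2 := key y
  simp only [map_one, mul_one, map_mul] at h1 h2
  calc σ (σ y) = (e * σ e) * σ (σ y) := by rw [h1, one_mul]
    _ = y := by rw [mul_assoc]; exact h2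

end CfsgLib.NatEmbed
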