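import Cfsg.Agent.NatEmbed.Four
import Cfsg.Agent.Classical.LinearOrder
import Cfsg.Prelude.Def_LocalEven
import Mathlib.GroupTheory.SpecificGroups.Alternating.Simple

/-!
`SL₂(4)` inside `GL₄(2)`, and transfer from an abstract natural module.
-/

set_option autoImplicit false
set_option linter.unusedSectionVars false

namespace CfsgLib.NatEmbed

open Equiv Subgroup

section Four

variable {F : Type} [Field F] [Fintype F]

theorem card_lin (hF : Nat.card F = 4) : Nat.card (lin : ZJ.SL2 F →* Perm (F × F)).range = 60 := by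
  rw [← Nat.card_congr (MonoidHom.ofInjective lin_injective).toEquiv]
  have h := CfsgLib.Linear.card_SL_mul (F := F) (q := 4) (by rw [← Nat.card_eq_fintype_card, hF]) 2
    (by norm_num)
  rw [Fin.prod_univ_two] at h
  norm_num at h
  show Nat.card (Matrix.SpecialLinearGroup (Fin 2) F) = 60
  omega

variable [CharP F 2] [Fact (Nat.Prime 2)] {G P : Subgroup (Perm (F × F))}

theorem exists_gl (h : Setup 2 G P) (hF : Nat.card F = 4) :
    ∃ f : G →* GL (Fin 4) (ZMod 2), Function.Injective f := by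
  letI : Algebra (ZMod 2) F := ZMod.algebra F 2
  let f0 : G →* Module.End (ZMod 2) (F × F) :=
    { toFun := fun g => (AddMonoidHom.mk' (fun v => (g : Perm (F × F)) v) (h.add g g.2)).toZModLinearMap 2
      map_one' := LinearMap.ext fun v => rfl
      map_mul' := fun x y => LinearMap.ext fun v => rfl }
  have hf0 : Function.Injective f0 := fun x y hxy =>
    Subtype.ext (Equiv.ext fun v => LinearMap.congr_fun hxy v)
  have hrank : Module.finrank (ZMod 2) (F × F) = 4 := by
    have h1 := Module.natCard_eq_pow_finrank (K := ZMod 2) (V := F × F)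
    rw [Nat.card_prod, hF, Nat.card_zmod] at h1
    exact (Nat.pow_right_injective (le_refl 2) (show 2 ^ 4 = 2 ^ _ by rw [← h1])).symm
  let b := Module.finBasisOfFinrankEq (ZMod 2) (F × F) hrank
  refine ⟨(Units.mapEquiv (LinearMap.toMatrixAlgEquiv b).toMulEquiv).toMonoidHom.comp f0.toHomUnits, ?_⟩
  refine (Units.mapEquiv (LinearMap.toMatrixAlgEquiv b).toMulEquiv).injective.comp fun x y hxy => ?_
  exact hf0 (by rw [← MonoidHom.coe_toHomUnits f0 x, hxy, MonoidHom.coe_toHomUnits])

theorem not_sixteen (h : Setup 2 G P) (hF : Nat.card F = 4) : ¬ 16 ∣ Nat.card G := by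
  intro hd
  obtain ⟨Q, hQ⟩ := Sylow.exists_subgroup_card_pow_prime (G := G) 2 (n := 4) (by norm_num; exact hd)
  have hc : Nat.card (Q.map G.subtype) = 2 ^ 4 := by
    rw [Subgroup.card_map_of_injective G.subtype_injective, hQ]
  have h1 := h.two_group_le (Q := Q.map G.subtype) (Subgroup.map_subtype_le Q) (IsPGroup.of_card hc)
  have h2 := h.card_P_le hF
  omega

/-- The conclusion over the field with four elements. -/
theorem four_cases (h : Setup 2 G P) (hF : Nat.card F = 4) :
    (∀ g ∈ G, ∀ A : ZJ.SL2 F, ∃ B, g * lin A * g⁻¹ = lin B) ∨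
      Nonempty (G ≃* alternatingGroup (Fin 7)) := by
  classical
  rcases h.normalizes_or_ns hF with hn | hns
  · exact Or.inl hn
  obtain ⟨f, hf⟩ := exists_gl h hF
  have iso : G ≃* f.range := MonoidHom.ofInjective hf
  set R : Subgroup (Perm (F × F)) := (lin : ZJ.SL2 F →* Perm (F × F)).range with hR
  have hRG : R ≤ G := by rintro - ⟨A, rfl⟩; exact h.le A
  set M := R.subgroupOf G with hM
  have hMc : Nat.card M = 60 := by
    rw [hM, Nat.card_congr (Subgroup.subgroupOfEquivOfLe hRG).toEquiv, card_lin hF]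
  have hMne : f.range ≠ ⊥ := by
    intro hb
    have : Nat.card G = 1 := by rw [Nat.card_congr iso.toEquiv, hb, Subgroup.card_bot]
    have := Nat.le_of_dvd (by omega) (Subgroup.card_subgroup_dvd_card M)
    omega
  have hL := RadFree.Listed.of_mulEquiv
    (RadFree.listed_gl_four f.range hMne (hns.of_mulEquiv iso)) iso
  have normal_case : M.Normal → ∀ g ∈ G, ∀ A : ZJ.SL2 F, ∃ B, g * lin A * g⁻¹ = lin B := by
    intro hMn g hg A
    have := hMn.conj_mem ⟨lin A, h.le A⟩ ⟨A, rfl⟩ ⟨g, hg⟩
    obtain ⟨B, hB⟩ := this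
    exact ⟨B, hB.symm⟩
  have h60 : 60 ∣ Nat.card G := hMc ▸ Subgroup.card_subgroup_dvd_card M
  have h16 := not_sixteen h hF
  rcases hL with ⟨n, hn5, hn8, ⟨e⟩⟩ | ⟨⟨e⟩⟩ | ⟨⟨e⟩⟩ | ⟨⟨e⟩⟩
  · haveI : Nontrivial (Fin n) := Fin.nontrivial_iff_two_le.2 (by omega)
    have hc : 2 * Nat.card G = n.factorial := by
      rw [Nat.card_congr e.toEquiv, two_mul_nat_card_alternatingGroup, Nat.card_perm, Nat.card_fin]
    interval_cases n
    · -- `A₅`
      refine Or.inl (normal_case ?_)
      have hf : Nat.factorial 5 = 120 := rfl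
      have : M = ⊤ := Subgroup.eq_top_of_card_eq _ (by omega)
      rw [this]; infer_instance
    · -- `A₆`
      refine Or.inl (normal_case ?_)
      have hf : Nat.factorial 6 = 720 := rfl
      have hG : Nat.card G = 360 := by omega
      haveI : IsSimpleGroup (alternatingGroup (Fin 6)) := alternatingGroup.isSimpleGroup (by simp)
      haveI : Nontrivial G := e.toEquiv.nontrivial
      haveI : IsSimpleGroup G := IsSimpleGroup.isSimpleGroup_of_surjective e.symm.toMonoidHom e.symm.surjective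
      set N := Subgroup.normalizer (M : Set G) with hN
      have hMN : M ≤ N := Subgroup.le_normalizer
      have hPN : P.subgroupOf G ≤ N := by
        intro x hx
        have key : ∀ y : G, y ∈ P.subgroupOf G → ∀ m : G, m ∈ M → y * m * y⁻¹ ∈ M := by
          rintro y hy m ⟨A, hA⟩
          obtain ⟨B, hB⟩ := h.pN _ hy A
          refine ⟨B, ?_⟩
          change lin B = (y : Perm (F × F)) * (m : Perm (F × F)) * (y : Perm (F × F))⁻¹
          rw [← hB, hA]; rfl
        rw [hN, Subgroup.mem_normalizer_iff]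
        intro m
        refine ⟨key x hx m, fun hm => ?_⟩
        have := key x⁻¹ (inv_mem hx) _ hm
        simpa [mul_assoc] using this
      have hPc : Nat.card (P.subgroupOf G) = 8 := by
        rw [Nat.card_congr (Subgroup.subgroupOfEquivOfLe h.pG).toEquiv]
        refine le_antisymm (h.card_P_le hF) ?_
        obtain ⟨Q, hQ⟩ := Sylow.exists_subgroup_card_pow_prime (G := G) 2 (n := 3) (by rw [hG]; norm_num)
        have hc' : Nat.card (Q.map G.subtype) = 2 ^ 3 := by
          rw [Subgroup.card_map_of_injective G.subtype_injective, hQ]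
        have h1 := h.two_group_le (Q := Q.map G.subtype) (Subgroup.map_subtype_le Q) (IsPGroup.of_card hc')
        omega
      have h120 : 120 ∣ Nat.card N := by
        have d1 := Subgroup.card_dvd_of_le hMN
        have d2 := Subgroup.card_dvd_of_le hPN
        rw [hMc] at d1
        rw [hPc] at d2
        exact (Nat.lcm_dvd d1 d2 : Nat.lcm 60 8 ∣ _)
      have hidx : N.index ≤ 3 := by
        obtain ⟨k, hk⟩ := h120
        have h1 := N.card_mul_index
        have : 0 < Nat.card N := Nat.card_pos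
        rw [hG, hk] at h1
        have hk0 : 1 ≤ k := by omega
        have : 120 * N.index ≤ 120 * k * N.index := Nat.mul_le_mul_right _ (by omega)
        omega
      have htop : N = ⊤ := by
        by_contra hne
        have hcore : N.normalCore = ⊥ := by
          rcases IsSimpleGroup.eq_bot_or_eq_top_of_normal N.normalCore inferInstance with h' | h'
          · exact h'
          · exact absurd (eq_top_iff.2 (h' ▸ Subgroup.normalCore_le N)) hne
        rw [Subgroup.normalCore_eq_ker, MonoidHom.ker_eq_bot_iff] at hcore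
        have h1 := Subgroup.card_dvd_of_injective _ hcore
        rw [Nat.card_perm, ← Subgroup.index_eq_card, hG] at h1
        have h2 := Nat.le_of_dvd (Nat.factorial_pos _) h1
        have h3 := Nat.factorial_le hidx
        have hf : Nat.factorial 3 = 6 := rfl
        omega
      exact Subgroup.normalizer_eq_top_iff.1 htop
    · exact Or.inr ⟨e⟩
    · exfalso
      have hf : Nat.factorial 8 = 40320 := rfl
      omega
  · refine Or.inl (normal_case (Subgroup.normal_of_index_eq_two ?_))
    have hG : Nat.card G = 120 := by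
      rw [Nat.card_congr e.toEquiv, Nat.card_perm, Nat.card_fin]; rfl
    have := M.card_mul_index
    rw [hMc, hG] at this
    omega
  · exfalso
    have hG : Nat.card G = 720 := by
      rw [Nat.card_congr e.toEquiv, Nat.card_perm, Nat.card_fin]; rfl
    omega
  · exfalso
    have hG : Nat.card G = 168 := by
      rw [Nat.card_congr e.toEquiv, Matrix.card_GL_field, Fin.prod_univ_three, ZMod.card]
      rfl
    omega

end Four

section Transfer

variable {X : Type*} [Group X] [Finite X] {F : Type} [Field F] [Fintype F]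

theorem exists_setup {p : ℕ} [Fact p.Prime] [CharP F p] (V G L : Subgroup X)
    (hGV : G ≤ Subgroup.normalizer (V : Set X)) (hfaith : G ⊓ Subgroup.centralizer (V : Set X) = ⊥)
    (hLG : L ≤ G) (hnat : Cfsg.IsNaturalSL2Module F V L)
    (hSyl : ∀ S : Sylow p ↥(G ⊓ Subgroup.normalizer (L : Set X)), ∀ P : Sylow p ↥G,
      Nat.card S = Nat.card P) :
    ∃ (φ : G →* Perm (F × F)) (P : Subgroup (Perm (F × F))), Function.Injective φ ∧
      Setup p φ.range P ∧ ((∀ g ∈ φ.range, ∀ A : ZJ.SL2 F, ∃ B, g * lin A * g⁻¹ = lin B) →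
        (L.subgroupOf G).Normal) := by
  classical
  obtain ⟨-, ρ, ψ, hρs, -, hact⟩ := hnat
  let e0 : V ≃ F × F :=
    (Additive.ofMul).trans (ψ.trans (LinearEquiv.finTwoArrow F F).toAddEquiv).toEquiv
  have he0 : ∀ a b : V, e0 (a * b) = e0 a + e0 b := fun a b => by
    simp [e0]
  have hconj : ∀ (g : G) (v : V), (g : X) * v * (g : X)⁻¹ ∈ V := fun g v =>
    (Subgroup.mem_normalizer_iff.1 (hGV g.2) v).1 v.2
  let cv : G →* Perm V :=
    { toFun := fun g =>
        { toFun := fun v => ⟨(g : X) * v * (g : X)⁻¹, hconj g v⟩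
          invFun := fun v => ⟨((g⁻¹ : G) : X) * v * ((g⁻¹ : G) : X)⁻¹, hconj g⁻¹ v⟩
          left_inv := fun v => Subtype.ext (by simp [mul_assoc])
          right_inv := fun v => Subtype.ext (by simp [mul_assoc]) }
      map_one' := Equiv.ext fun v => Subtype.ext (by simp)
      map_mul' := fun x y => Equiv.ext fun v => Subtype.ext (by simp [mul_assoc]) }
  let φ : G →* Perm (F × F) := e0.permCongrHom.toMonoidHom.comp cv
  have hφap : ∀ (g : G) (v : V), φ g (e0 v) = e0 (cv g v) := fun g v => by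
    simp [φ, Equiv.permCongrHom]
  have hadd : ∀ g : G, IsAdd (φ g) := by
    intro g v w
    obtain ⟨a, rfl⟩ := e0.surjective v
    obtain ⟨b, rfl⟩ := e0.surjective w
    rw [← he0, hφap, hφap, hφap, ← he0]
    exact congrArg e0 (Subtype.ext (by simp [cv]))
  have hinj : Function.Injective φ := by
    refine (injective_iff_map_eq_one φ).2 fun g hg => ?_
    have hmem : (g : X) ∈ G ⊓ Subgroup.centralizer (V : Set X) := by
      refine ⟨g.2, Subgroup.mem_centralizer_iff.2 fun v hv => ?_⟩
      have h1 := hφap g ⟨v, hv⟩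
      rw [hg, Perm.one_apply] at h1
      have h2 : v = (g : X) * v * (g : X)⁻¹ := congrArg Subtype.val (e0.injective h1)
      exact (eq_mul_inv_iff_mul_eq.1 h2)
    rw [hfaith, Subgroup.mem_bot] at hmem
    exact Subtype.ext hmem
  have hlin : ∀ l : L, φ ⟨l, hLG l.2⟩ = lin (ρ l) := by
    intro l
    refine Equiv.ext fun x => ?_
    obtain ⟨v, rfl⟩ := e0.surjective x
    obtain ⟨w, hw, hwψ⟩ := hact l v
    rw [hφap, show cv ⟨l, hLG l.2⟩ v = w from Subtype.ext hw.symm, lin_apply]
    have h0 := congrFun hwψ 0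
    have h1 := congrFun hwψ 1
    simp only [Matrix.mulVec, dotProduct, Fin.sum_univ_two] at h0 h1
    exact Prod.ext h0 h1
  have hLim : ∀ A : ZJ.SL2 F, ∃ l : L, φ ⟨l, hLG l.2⟩ = lin A := fun A => by
    obtain ⟨l, rfl⟩ := hρs A
    exact ⟨l, hlin l⟩
  set N := G ⊓ Subgroup.normalizer (L : Set X) with hN
  set U : Subgroup G := (U0 F).comap φ with hU
  have hUp : IsPGroup p U := (isPGroup_U0 (F := F) (p := p)).comap_of_injective φ hinj
  have hUN : U.map G.subtype ≤ N := by
    rintro - ⟨g, hg, rfl⟩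
    obtain ⟨a, ha⟩ := mem_U0.1 hg
    obtain ⟨l, hl⟩ := hLim (ZJ.upper a)
    have : g = ⟨l, hLG l.2⟩ := hinj (ha.symm.trans hl.symm)
    subst this
    exact ⟨hLG l.2, Subgroup.le_normalizer l.2⟩
  obtain ⟨S, hS⟩ := ((hUp.map G.subtype).comap_subtype (K := N)).exists_le_sylow
  set S0 : Subgroup G := (S.1.map N.subtype).subgroupOf G with hS0
  have hS0p : IsPGroup p S0 := (S.2.map N.subtype).comap_subtype
  have hS0le : S.1.map N.subtype ≤ G := (Subgroup.map_subtype_le _).trans inf_le_left
  obtain ⟨P1, hP1⟩ := hS0p.exists_le_sylow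
  have hP1eq : S0 = P1.1 := by
    refine Subgroup.eq_of_le_of_card_ge hP1 (le_of_eq ?_)
    rw [hS0, Nat.card_congr (Subgroup.subgroupOfEquivOfLe hS0le).toEquiv,
      Subgroup.card_map_of_injective N.subtype_injective]
    exact (hSyl S P1).symm
  refine ⟨φ, S0.map φ, hinj, ?_, ?_⟩
  · refine ⟨?_, ?_, hS0p.map φ, Subgroup.map_le_range φ S0, ?_, ?_, ?_⟩
    · rintro - ⟨g, rfl⟩; exact hadd g
    · intro A
      obtain ⟨l, hl⟩ := hLim A
      exact ⟨_, hl⟩
    · rintro - ⟨g, hg, rfl⟩ A
      obtain ⟨l, hl⟩ := hLim A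
      obtain ⟨n, -, hn⟩ := hg
      have hgN : (g : X) ∈ N := by rw [← show (n : X) = g from hn]; exact n.2
      have hm : (g : X) * l * (g : X)⁻¹ ∈ L :=
        (Subgroup.mem_normalizer_iff.1 hgN.2 l).1 l.2
      refine ⟨ρ ⟨_, hm⟩, ?_⟩
      rw [← hlin, ← hl, ← map_inv, ← map_mul, ← map_mul]
      rfl
    · intro a
      obtain ⟨l, hl⟩ := hLim (ZJ.upper a)
      refine ⟨⟨l, hLG l.2⟩, ?_, hl⟩
      have hlU : (l : X) ∈ U.map G.subtype :=
        ⟨⟨l, hLG l.2⟩, show φ ⟨l, hLG l.2⟩ ∈ U0 F by rw [hl]; exact up_mem a, rfl⟩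
      exact ⟨⟨l, hUN hlU⟩, hS hlU, rfl⟩
    · intro Q hQ hQp
      obtain ⟨Q1, hQ1⟩ := (hQp.comap_of_injective φ hinj).exists_le_sylow
      obtain ⟨k, hk⟩ := MulAction.exists_smul_eq G Q1 P1
      refine ⟨φ k, ⟨k, rfl⟩, fun x hx => ?_⟩
      obtain ⟨g, rfl⟩ := hQ hx
      refine ⟨k * g * k⁻¹, ?_, by simp⟩
      rw [hP1eq, ← hk, Sylow.coe_subgroup_smul]
      exact Subgroup.smul_mem_pointwise_smul g (MulAut.conj k) Q1.1 (hQ1 hx)
  · intro hnorm
    refine ⟨fun m hm g => ?_⟩
    obtain ⟨B, hB⟩ := hnorm (φ g) ⟨g, rfl⟩ (ρ ⟨m, hm⟩)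
    obtain ⟨l, hl⟩ := hLim B
    have h1 : φ (g * m * g⁻¹) = φ ⟨l, hLG l.2⟩ := by
      rw [map_mul, map_mul, map_inv, hl, ← hB, show φ m = lin (ρ ⟨m, hm⟩) from hlin ⟨m, hm⟩]
    rw [hinj h1]
    exact l.2

end Transfer

end CfsgLib.NatEmbed
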