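import Cfsg.Agent.NatEmbed.Main
import Cfsg.Agent.RadFree.Eight
import Cfsg.Agent.Solvable.Basics
import Mathlib.Algebra.Module.ZMod

/-!
The exceptional field with four elements.
-/

set_option autoImplicit false
set_option linter.unusedSectionVars false

namespace CfsgLib.NatEmbed

open Equiv Subgroup

variable {F : Type*} [Field F] [Fintype F]

theorem mem_four (hF : Nat.card F = 4) {c : F} (h0 : c ≠ 0) (h1 : c ≠ 1) (h2 : (2 : F) = 0) (a : F) :
    a = 0 ∨ a = 1 ∨ a = c ∨ a = c + 1 := by
  classical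
  have hc1 : c + 1 ≠ 0 := fun h => h1 (by linear_combination h - h2)
  have hs : ({0, 1, c, c + 1} : Finset F) = Finset.univ := by
    refine Finset.eq_univ_of_card _ ?_
    rw [← Nat.card_eq_fintype_card, hF, Finset.card_insert_of_notMem, Finset.card_insert_of_notMem,
      Finset.card_pair]
    · intro h
      simp at h
    · simp [Ne.symm h1, h0]
    · simp [Ne.symm h0, Ne.symm hc1]
  have := hs ▸ Finset.mem_univ a
  simpa using this

theorem exists_nontrivial_elt (hF : Nat.card F = 4) : ∃ c : F, c ≠ 0 ∧ c ≠ 1 := by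
  classical
  by_contra hall
  push Not at hall
  have : (Finset.univ : Finset F) ⊆ {0, 1} := fun x _ => by
    by_cases hx : x = 0
    · simp [hx]
    · simp [hall x hx]
  have h' := (Finset.card_le_card this).trans Finset.card_le_two
  rw [Finset.card_univ, ← Nat.card_eq_fintype_card, hF] at h'
  omega

/-- A group is normalized once the conjugates of the root elements are linear. -/
theorem normalizes_of_conj_up {G : Subgroup (Perm (F × F))} (hle : ∀ A, lin A ∈ G)
    (hup : ∀ g ∈ G, ∀ a : F, ∃ B, g * up a * g⁻¹ = lin B) {g : Perm (F × F)} (hg : g ∈ G)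
    (A : ZJ.SL2 F) : ∃ B, g * lin A * g⁻¹ = lin B := by
  let w : ZJ.SL2 F := ⟨!![0, -1; 1, 0], by simp [Matrix.det_fin_two]⟩
  let S : Subgroup (ZJ.SL2 F) :=
    ((lin : ZJ.SL2 F →* Perm (F × F)).range.comap ((MulAut.conj g).toMonoidHom.comp lin))
  suffices A ∈ S by
    obtain ⟨B, hB⟩ := this
    exact ⟨B, hB.symm⟩
  refine sl2_gen A S (fun a => ?_) (fun a => ?_)
  · obtain ⟨B, hB⟩ := hup g hg a
    exact ⟨B, hB.symm⟩
  · have hw : ZJ.lower a = w * ZJ.upper (-a) * w⁻¹ := by
      obtain ⟨i00, i01, i10, i11⟩ := ZJ.sl2_inv w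
      apply ZJ.sl2_ext <;>
        simp only [ZJ.sl2_mul, i00, i01, i10, i11, ZJ.upper_00, ZJ.upper_01, ZJ.upper_10,
          ZJ.upper_11, ZJ.lower_00, ZJ.lower_01, ZJ.lower_10, ZJ.lower_11] <;>
        simp [w]
    obtain ⟨B, hB⟩ := hup _ (mul_mem hg (hle w)) (-a)
    refine ⟨B, ?_⟩
    rw [← hB]
    simp [hw, up, mul_assoc]

namespace Setup

variable {G P : Subgroup (Perm (F × F))}

/-- Elements commuting with `SL₂(F)` are scalars. -/
theorem scalar_of_comm {m : Perm (F × F)} (hm : IsAdd m)
    (hc : ∀ A : ZJ.SL2 F, m * lin A = lin A * m) : ∃ c : F, ∀ v : F × F, m v = (c * v.1, c * v.2) := by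
  have hap : ∀ A v, m (lin A v) = lin A (m v) := fun A v =>
    congrArg (fun f : Perm (F × F) => f v) (hc A)
  have hW : ∀ t, (m (t, 0)).2 = 0 := by
    intro t
    refine (up_fix (a := (1 : F)) one_ne_zero).1 ?_
    rw [up, ← hap, ← up, (up_fix one_ne_zero).2 rfl]
  have hY : ∀ y, (m (0, y)).1 = 0 := by
    intro y
    have h1 := congrArg Prod.snd (hap (ZJ.lower 1) (0, y))
    simp [lin_apply] at h1
    exact h1
  have hrel : ∀ a y, (m (a * y, 0)).1 = a * (m (0, y)).2 := by
    intro a y
    have h1 := congrArg Prod.fst (hap (ZJ.upper a) (0, y))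
    simp only [lin_apply, ZJ.upper_00, ZJ.upper_01, ZJ.upper_10, ZJ.upper_11, mul_zero, zero_mul,
      one_mul, zero_add] at h1
    rw [hm.split, Prod.fst_add, hY, add_zero, zero_add] at h1
    exact h1
  refine ⟨(m (0, 1)).2, fun v => ?_⟩
  obtain ⟨t, y⟩ := v
  rw [hm.split]
  have h1 := hrel t 1
  rw [mul_one] at h1
  have h2 : (m (0, y)).2 = y * (m (0, 1)).2 := by
    have h3 := hrel 1 y
    rw [one_mul, one_mul] at h3
    have h4 := hrel y 1
    rw [mul_one] at h4
    rw [← h3, h4]
  refine Prod.ext ?_ ?_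
  · rw [Prod.fst_add, hY, add_zero, h1]; ring
  · rw [Prod.snd_add, hW, zero_add, h2]; ring

variable [CharP F 2] [Fact (Nat.Prime 2)] (h : Setup 2 G P)
include h

theorem card_P_le (hF : Nat.card F = 4) : Nat.card P ≤ 8 := by
  classical
  obtain ⟨c, hc0, hc1⟩ := exists_nontrivial_elt hF
  have h2 : (2 : F) = 0 := CharTwo.two_eq_zero
  have hcase : ∀ σ : F ≃+* F, σ = RingEquiv.refl F ∨ σ c = c + 1 := by
    intro σ
    by_cases hs : σ c = c
    · left
      refine RingEquiv.ext fun a => ?_
      rcases mem_four hF hc0 hc1 h2 a with rfl | rfl | rfl | rfl <;> simp [hs]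
    · right
      rcases mem_four hF hc0 hc1 h2 (σ c) with h' | h' | h' | h'
      · exact absurd ((map_eq_zero σ).1 h') hc0
      · exact absurd (σ.injective (h'.trans (map_one σ).symm)) hc1
      · exact absurd h' hs
      · exact h'
  have hU : Nat.card (U0 F) = 4 := by
    rw [← hF]
    refine (Nat.card_eq_of_bijective (fun a : F => (⟨up a, up_mem a⟩ : U0 F))
      ⟨fun a b hab => up_injective (congrArg Subtype.val hab), ?_⟩).symm
    rintro ⟨x, hx⟩
    obtain ⟨a, rfl⟩ := mem_U0.1 hx
    exact ⟨a, rfl⟩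
  by_cases hall : ∀ x ∈ P, x ∈ U0 F
  · have := Subgroup.card_le_of_le (H := P) (K := U0 F) hall
    omega
  push Not at hall
  obtain ⟨x₀, hx₀, hx₀U⟩ := hall
  have key : ∀ y : P, (y : Perm (F × F)) ∉ U0 F → x₀⁻¹ * y ∈ U0 F := by
    rintro ⟨y, hy⟩ hyU
    obtain ⟨σ, d, e, hs⟩ := h.P_semi hx₀
    obtain ⟨τ, d', e', ht⟩ := h.P_semi hy
    have h1 : σ c = c + 1 := (hcase σ).resolve_left fun hσ => hx₀U (h.semi_refl hx₀ hs hσ)
    have h3 : τ c = c + 1 := (hcase τ).resolve_left fun hσ => hyU (h.semi_refl hy ht hσ)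
    have : τ = σ := RingEquiv.ext fun a => by
      rcases mem_four hF hc0 hc1 h2 a with rfl | rfl | rfl | rfl <;> simp [h1, h3]
    subst this
    exact h.same_twist hy hx₀ ht hs
  let f : P → (U0 F) ⊕ (U0 F) := fun y =>
    if hy : (y : Perm (F × F)) ∈ U0 F then .inl ⟨_, hy⟩ else .inr ⟨_, key y hy⟩
  have hinj : Function.Injective f := by
    intro y z hyz
    simp only [f] at hyz
    split_ifs at hyz with hy hz
    · simp only [Sum.inl.injEq, Subtype.mk.injEq] at hyz
      exact Subtype.ext hyz
    · exact Subtype.ext (mul_left_cancel (congrArg Subtype.val (Sum.inr.inj hyz)))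
  have := Nat.card_le_card_of_injective f hinj
  rw [Nat.card_sum, hU] at this
  exact this

theorem two_group_le {Q : Subgroup (Perm (F × F))} (hQ : Q ≤ G) (hQp : IsPGroup 2 Q) :
    Nat.card Q ≤ Nat.card P := by
  obtain ⟨k, -, hk⟩ := h.conj Q hQ hQp
  refine Nat.card_le_card_of_injective (fun x : Q => (⟨k * x * k⁻¹, hk x x.2⟩ : P)) fun x y hxy => ?_
  exact Subtype.ext (mul_left_cancel (mul_right_cancel (congrArg Subtype.val hxy)))

/-- Either `SL₂(4)` is normalized or there is no nontrivial solvable normal subgroup. -/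
theorem normalizes_or_ns (hF : Nat.card F = 4) :
    (∀ g ∈ G, ∀ A : ZJ.SL2 F, ∃ B, g * lin A * g⁻¹ = lin B) ∨ RadFree.NS G := by
  refine or_iff_not_imp_right.2 fun hns => ?_
  simp only [RadFree.NS, not_forall] at hns
  obtain ⟨N, hN, hNs, hN1⟩ := hns
  haveI := hN
  obtain ⟨M, hM, hM1, -, hMc, -, r, hr, hMr, hMp⟩ :=
    CfsgLib.Solvable.exists_normal_elementary_le hN1 hNs
  haveI : Fact r.Prime := ⟨hr⟩
  -- conjugation stability
  have hMn : ∀ m : G, m ∈ M → ∀ g : G, g * m * g⁻¹ ∈ M := fun m hm g => hM.conj_mem m hm g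
  by_cases hr2 : r = 2
  · -- a normal 2-subgroup has a nonzero fixed vector
    exfalso
    subst hr2
    haveI := hMp
    letI : MulAction M (F × F) := MulAction.compHom _ (G.subtype.comp M.subtype)
    have hdvd : 2 ∣ Nat.card (F × F) := by rw [Nat.card_prod, hF]; norm_num
    have h0 : (0 : F × F) ∈ MulAction.fixedPoints M (F × F) := fun m =>
      (h.add _ (m : G).2).map_zero
    obtain ⟨v, hv, hv0⟩ := hMp.exists_fixed_point_of_prime_dvd_card_of_fixed_point _ hdvd h0
    apply hM1
    rw [Subgroup.eq_bot_iff_forall]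
    intro m hm
    refine Subtype.ext (Equiv.ext fun w => ?_)
    show (m : Perm (F × F)) w = w
    by_cases hw : w = 0
    · rw [hw]; exact (h.add _ m.2).map_zero
    obtain ⟨A, hA⟩ := exists_first v (Ne.symm hv0)
    obtain ⟨B, hB⟩ := exists_first w hw
    set l : G := ⟨lin (B * A⁻¹), h.le _⟩
    have hlv : (l : Perm (F × F)) v = w := by
      show lin (B * A⁻¹) v = w
      rw [← hA, ← hB, ← Perm.mul_apply, ← map_mul, inv_mul_cancel_right]
    have h1 := hv ⟨l⁻¹ * m * l⁻¹⁻¹, hMn m hm _⟩
    have h1' : (l : Perm (F × F))⁻¹ ((m : Perm (F × F)) ((l : Perm (F × F)) v)) = v := by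
      simpa [MulAction.compHom_smul_def] using h1
    rw [hlv] at h1'
    rw [← hlv]
    rw [hlv]
    have := congrArg (l : Perm (F × F)) h1'
    rwa [apply_inv_eq, hlv] at this
  · -- `M` of odd exponent centralizes `SL₂(4)`
    have hcU : ∀ m : G, m ∈ M → ∀ a : F, (m : Perm (F × F)) * up a = up a * m := by
      have step : ∀ m : G, m ∈ M → ∀ a : F, a ≠ 0 → (m : Perm (F × F)) * up a = up a * m →
          ∀ b : F, (m : Perm (F × F)) * up b = up b * m := by
        intro m hm a ha hma b
        have hW : ∀ t, ((m : Perm (F × F)) (t, 0)).2 = 0 := by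
          intro t
          refine (up_fix ha).1 ?_
          rw [← Perm.mul_apply, ← hma, Perm.mul_apply, (up_fix ha).2 rfl]
        have hu : (m : Perm (F × F)) * up b * (m : Perm (F × F))⁻¹ ∈ U0 F := h.stab_norm m.2 hW b
        obtain ⟨c, hc⟩ := mem_U0.1 hu
        -- the commutator lies in `M` and in the root group
        set z : G := m * (⟨up b, h.up_G b⟩ * m⁻¹ * ⟨up b, h.up_G b⟩⁻¹) with hz
        have hzM : z ∈ M := mul_mem hm (hMn _ (inv_mem hm) _)
        have hzU : (z : Perm (F × F)) = up (c - b) := by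
          rw [sub_eq_add_neg, ← up_mul, hc, ← up_inv]
          simp [hz, mul_assoc]
        have hz2 : z ^ 2 = 1 := Subtype.ext (by
          rw [SubmonoidClass.coe_pow, hzU, sq, up_two _ rfl]; rfl)
        have hzr : z ^ r = 1 := hMr z hzM
        have hz1 : z = 1 := by
          have hcop : Nat.Coprime 2 r := (Nat.coprime_primes Nat.prime_two hr).2 (Ne.symm hr2)
          have := pow_gcd_eq_one.2 ⟨hz2, hzr⟩
          rwa [hcop.gcd_eq_one, pow_one] at this
        rw [hz1, OneMemClass.coe_one, eq_comm, up_eq_one, sub_eq_zero] at hzU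
        rw [hzU] at hc
        calc (m : Perm (F × F)) * up b = (m : Perm (F × F)) * up b * (m : Perm (F × F))⁻¹ * m := by group
          _ = up b * m := by rw [← hc]
      intro m hm a
      obtain ⟨c, hc0, hc1⟩ := exists_nontrivial_elt hF
      have h2 : (2 : F) = 0 := CharTwo.two_eq_zero
      set u : G := ⟨up 1, h.up_G 1⟩
      set v : G := ⟨up c, h.up_G c⟩
      have huu : u * u = 1 := Subtype.ext (up_two _ rfl)
      have hvv : v * v = 1 := Subtype.ext (up_two _ rfl)
      have huv : u * v = v * u := Subtype.ext (by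
        show up 1 * up c = up c * up 1
        rw [up_mul, up_mul, add_comm])
      have hcomm : ∀ x y : G, x ∈ M → y ∈ M → x * y = y * x := fun x y hx hy =>
        congrArg Subtype.val (hMc.is_comm.comm (⟨x, hx⟩ : M) ⟨y, hy⟩)
      -- `y` fixed by one involution of the root group
      have fix1 : ∀ (x : G) (b : F), x ∈ M → b ≠ 0 → ∀ a : F,
          ((x * (⟨up b, h.up_G b⟩ * x * ⟨up b, h.up_G b⟩⁻¹) : G) : Perm (F × F)) * up a =
            up a * ((x * (⟨up b, h.up_G b⟩ * x * ⟨up b, h.up_G b⟩⁻¹) : G) : Perm (F × F)) := by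
        intro x b hx hb a
        set w : G := ⟨up b, h.up_G b⟩
        have hww : w * w = 1 := Subtype.ext (up_two _ rfl)
        have hwinv : w⁻¹ = w := inv_eq_of_mul_eq_one_right hww
        refine step _ (mul_mem hx (hMn x hx w)) b hb ?_ a
        have : (x * (w * x * w⁻¹)) * w = w * (x * (w * x * w⁻¹)) := by
          rw [hcomm x _ hx (hMn x hx w), hwinv]
          calc w * x * w * x * w = w * (x * (w * x * w)) := by group
            _ = w * (w * x * w * x) := by
              have := hcomm x _ hx (hMn x hx w)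
              rw [hwinv] at this
              rw [this]
        exact congrArg Subtype.val this
      let C : Subgroup G :=
        { carrier := {x | ∀ a : F, (x : Perm (F × F)) * up a = up a * (x : Perm (F × F))}
          one_mem' := fun a => by simp
          mul_mem' := fun {x y} hx hy a => by
            rw [Subgroup.coe_mul, mul_assoc, hy, ← mul_assoc, hx, mul_assoc]
          inv_mem' := fun {x} hx a => by
            rw [Subgroup.coe_inv, inv_mul_eq_iff_eq_mul, ← mul_assoc, hx, mul_inv_cancel_right] }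
      have hA : m * (u * m * u⁻¹) ∈ C := fix1 m 1 hm one_ne_zero
      have hB : m * (v * m * v⁻¹) ∈ C := fix1 m c hm hc0
      set m' := u * m * u⁻¹
      set n' := v * m * v⁻¹
      have hm' : m' ∈ M := hMn m hm u
      have hn' : n' ∈ M := hMn m hm v
      -- `B * Bᵘ` and `B = m nᵘ` are both fixed
      have hB' : u * (m * n') * u⁻¹ = m * n' := by
        have := hB 1
        rw [mul_inv_eq_iff_eq_mul]
        exact Subtype.ext this.symm
      have hN' : u * n' * u⁻¹ = m * n' * m'⁻¹ := by
        calc u * n' * u⁻¹ = m'⁻¹ * (u * (m * n') * u⁻¹) := by simp [m', mul_assoc]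
          _ = m'⁻¹ * (m * n') := by rw [hB']
          _ = m * n' * m'⁻¹ := hcomm _ _ (inv_mem hm') (mul_mem hm hn')
      have hD : m * (u * n' * u⁻¹) ∈ C := by
        have e : u * n' * u⁻¹ = (u * v) * m * (u * v)⁻¹ := by simp [n', mul_assoc]
        have hw : u * v = (⟨up (1 + c), h.up_G _⟩ : G) := Subtype.ext (up_mul 1 c)
        rw [e, hw]
        exact fix1 m (1 + c) hm fun h0 => hc1 (by linear_combination h0 - h2)
      -- so `m ^ 2` is fixed
      have hmm : m * m ∈ C := by
        rw [hN'] at hD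
        have e : m * m = (m * (m * n' * m'⁻¹)) * (m * m') * (m * n')⁻¹ := by
          have h1 : m'⁻¹ * (m * m') = m := by
            rw [hcomm m m' hm hm', inv_mul_cancel_left]
          calc m * m = m * (m * n') * m * (m * n')⁻¹ := by
                rw [mul_assoc m (m * n') m, hcomm _ m (mul_mem hm hn') hm, ← mul_assoc,
                  mul_inv_cancel_right]
            _ = m * (m * n') * (m'⁻¹ * (m * m')) * (m * n')⁻¹ := by rw [h1]
            _ = _ := by group
        rw [e]
        exact mul_mem (mul_mem hD hA) (inv_mem hB)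
      have hodd : Odd r := hr.odd_of_ne_two hr2
      obtain ⟨j, hj⟩ := hodd
      have hmC : m ∈ C := by
        have : m = ((m * m) ^ j)⁻¹ := by
          apply eq_inv_of_mul_eq_one_left
          rw [← pow_two, ← pow_mul, ← pow_succ', ← hj]
          exact hMr m hm
        rw [this]
        exact inv_mem (pow_mem hmm j)
      exact hmC a
    -- scalars
    have hscal : ∀ m : G, m ∈ M → ∃ c : F, ∀ x : F × F,
        (m : Perm (F × F)) x = (c * x.1, c * x.2) := by
      intro m hm
      refine scalar_of_comm (h.add _ m.2) fun A => ?_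
      let S : Subgroup (ZJ.SL2 F) :=
        { carrier := {A | ∀ m : G, m ∈ M → (m : Perm (F × F)) * lin A = lin A * m}
          one_mem' := fun m _ => by simp
          mul_mem' := fun {A B} hA hB m hm => by
            rw [map_mul, ← mul_assoc, hA m hm, mul_assoc, hB m hm, mul_assoc]
          inv_mem' := fun {A} hA m hm => by
            rw [map_inv, eq_inv_mul_iff_mul_eq, ← mul_assoc, ← hA m hm, mul_inv_cancel_right] }
      suffices A ∈ S from this m hm
      refine sl2_gen A S (fun a m hm => hcU m hm a) (fun a m hm => ?_)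
      let w : ZJ.SL2 F := ⟨!![0, -1; 1, 0], by simp [Matrix.det_fin_two]⟩
      have hw : ZJ.lower a = w * ZJ.upper (-a) * w⁻¹ := by
        obtain ⟨i00, i01, i10, i11⟩ := ZJ.sl2_inv w
        apply ZJ.sl2_ext <;>
          simp only [ZJ.sl2_mul, i00, i01, i10, i11, ZJ.upper_00, ZJ.upper_01, ZJ.upper_10,
            ZJ.upper_11, ZJ.lower_00, ZJ.lower_01, ZJ.lower_10, ZJ.lower_11] <;>
          simp [w]
      set lw : G := ⟨lin w, h.le w⟩
      have h1 := hcU (lw⁻¹ * m * lw⁻¹⁻¹) (hMn m hm _) (-a)
      simp only [inv_inv, Subgroup.coe_mul, Subgroup.coe_inv] at h1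
      rw [hw, map_mul, map_mul, map_inv]
      change (m : Perm (F × F)) * (lin w * up (-a) * (lin w)⁻¹) =
        lin w * up (-a) * (lin w)⁻¹ * m
      calc (m : Perm (F × F)) * (lin w * up (-a) * (lin w)⁻¹)
          = lin w * ((lin w)⁻¹ * m * lin w * up (-a)) * (lin w)⁻¹ := by group
        _ = lin w * (up (-a) * ((lin w)⁻¹ * m * lin w)) * (lin w)⁻¹ := by rw [h1]
        _ = _ := by group
    obtain ⟨m, hm, hm1⟩ := (bot_or_exists_ne_one M).resolve_left hM1
    obtain ⟨c, hcv⟩ := hscal m hm
    have hc1 : c ≠ 1 := by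
      rintro rfl
      exact hm1 (Subtype.ext (Equiv.ext fun x => by simp [hcv]))
    have hc0 : c ≠ 0 := by
      rintro rfl
      have := (m : Perm (F × F)).injective (a₁ := ((1, 0) : F × F)) (a₂ := 0) (by simp [hcv])
      exact one_ne_zero (congrArg Prod.fst this)
    have h2 : (2 : F) = 0 := CharTwo.two_eq_zero
    intro g hg A
    refine normalizes_of_conj_up h.le (fun g hg a => ?_) hg A
    have hgadd := h.add g hg
    obtain ⟨c', hc'⟩ := hscal (⟨g, hg⟩ * m * ⟨g, hg⟩⁻¹) (hMn m hm _)
    have hgc : ∀ x : F × F, g (c * x.1, c * x.2) = (c' * (g x).1, c' * (g x).2) := by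
      intro x
      have := hc' (g x)
      simpa [hcv] using this
    choose τ hτ using show ∀ b : F, ∃ b' : F, ∀ x : F × F,
        g (b * x.1, b * x.2) = (b' * (g x).1, b' * (g x).2) by
      intro b
      rcases mem_four hF hc0 hc1 h2 b with rfl | rfl | rfl | rfl
      · exact ⟨0, fun x => by simpa [Prod.mk_zero_zero] using hgadd.map_zero⟩
      · exact ⟨1, fun x => by simp⟩
      · exact ⟨c', hgc⟩
      · refine ⟨c' + 1, fun x => ?_⟩
        rw [show ((_, _) : F × F) = (_, _) + x from Prod.ext (add_one_mul _ _) (add_one_mul _ _),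
          hgadd, hgc]
        exact Prod.ext (add_one_mul _ _).symm (add_one_mul _ _).symm
    have hτs : Function.Surjective τ := by
      apply Finite.injective_iff_surjective.1
      intro b b' hbb
      have h1 := hτ b (1, 0)
      rw [hbb, ← hτ b' (1, 0)] at h1
      simpa using congrArg Prod.fst (g.injective h1)
    set k := g * up a * g⁻¹ with hk
    have hkadd : IsAdd k := h.add k (mul_mem (mul_mem hg (h.up_G a)) (inv_mem hg))
    have hklin : ∀ b (x : F × F), k (b * x.1, b * x.2) = (b * (k x).1, b * (k x).2) := by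
      intro b x
      obtain ⟨b, rfl⟩ := hτs b
      obtain ⟨y, rfl⟩ := g.surjective x
      rw [← hτ b y]
      simp only [hk, Perm.mul_apply, inv_apply_eq]
      rw [← hτ b (up a y), up_apply, up_apply]
      congr 1
      refine Prod.ext ?_ rfl
      show b * y.1 + a * (b * y.2) = b * (y.1 + a * y.2)
      ring
    have hkv : ∀ x : F × F, k x = ((k (1, 0)).1 * x.1 + (k (0, 1)).1 * x.2,
        (k (1, 0)).2 * x.1 + (k (0, 1)).2 * x.2) := by
      rintro ⟨s, y⟩
      have h1 : k (s, 0) = (s * (k (1, 0)).1, s * (k (1, 0)).2) := by simpa using hklin s (1, 0)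
      have h3 : k (0, y) = (y * (k (0, 1)).1, y * (k (0, 1)).2) := by simpa using hklin y (0, 1)
      rw [hkadd.split, h1, h3]
      exact Prod.ext (by simp [mul_comm]) (by simp [mul_comm])
    set k00 := (k (1, 0)).1
    set k01 := (k (0, 1)).1
    set k10 := (k (1, 0)).2
    set k11 := (k (0, 1)).2
    have hk2 : k * k = 1 := by
      rw [hk, show g * up a * g⁻¹ * (g * up a * g⁻¹) = g * (up a * up a) * g⁻¹ by group, up_two _ rfl]
      group
    have e1 := congrArg (fun f : Perm (F × F) => f (1, 0)) hk2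
    have e2 := congrArg (fun f : Perm (F × F) => f (0, 1)) hk2
    simp only [Perm.mul_apply, Perm.one_apply] at e1 e2
    rw [hkv, hkv] at e1 e2
    simp only [Prod.mk.injEq, mul_one, mul_zero, add_zero, zero_add] at e1 e2
    obtain ⟨e11, e12⟩ := e1
    obtain ⟨e21, e22⟩ := e2
    have hdet2 : (k00 * k11 - k01 * k10) * (k00 * k11 - k01 * k10) = 1 := by
      linear_combination e22 * (k00 * k00 + k01 * k10) + e11 - e12 * (k00 * k01 + k01 * k11)
    have hdet : k00 * k11 - k01 * k10 = 1 := by
      have : (k00 * k11 - k01 * k10 - 1) * (k00 * k11 - k01 * k10 - 1) = 0 := by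
        linear_combination hdet2 - (k00 * k11 - k01 * k10 - 1) * h2
      exact sub_eq_zero.1 (mul_self_eq_zero.1 this)
    refine ⟨⟨!![k00, k01; k10, k11], by rw [Matrix.det_fin_two]; simpa using hdet⟩, Equiv.ext fun x => ?_⟩
    exact hkv x

end Setup

end CfsgLib.NatEmbed
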