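import Cfsg.Agent.NatEmbed.Setup

/-!
`SL₂(F)` is normal in such a group unless `|F| = 4`.
-/

set_option autoImplicit false
set_option linter.unusedSectionVars false

namespace CfsgLib.NatEmbed

open Equiv Subgroup

variable {F : Type*} [Field F] [Fintype F] {p : ℕ} [Fact p.Prime] [CharP F p]

/-- The elements of `G` centralizing the line and the quotient by it. -/
def kerW (G : Subgroup (Perm (F × F))) : Subgroup (Perm (F × F)) where
  carrier := {g | g ∈ G ∧ (∀ t : F, g (t, 0) = (t, 0)) ∧ ∀ v : F × F, (g v).2 = v.2}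
  one_mem' := ⟨one_mem G, fun _ => rfl, fun _ => rfl⟩
  mul_mem' := fun {a b} ha hb => ⟨mul_mem ha.1 hb.1,
    fun t => by rw [Perm.mul_apply, hb.2.1, ha.2.1],
    fun v => by rw [Perm.mul_apply, ha.2.2, hb.2.2]⟩
  inv_mem' := fun {a} ha => ⟨inv_mem ha.1,
    fun t => a.injective (by rw [apply_inv_eq, ha.2.1]),
    fun v => by
      have := ha.2.2 (a⁻¹ v)
      rw [apply_inv_eq] at this
      exact this.symm⟩

namespace Setup

variable {G P : Subgroup (Perm (F × F))} (h : Setup p G P)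
include h

theorem mem_kerW {g : Perm (F × F)} :
    g ∈ kerW G ↔ g ∈ G ∧ (∀ t : F, g (t, 0) = (t, 0)) ∧ ∀ v : F × F, (g v).2 = v.2 := Iff.rfl

theorem isPGroup_kerW : IsPGroup p (kerW G) := by
  rintro ⟨g, hg, hfix, hsnd⟩
  refine ⟨1, Subtype.ext ?_⟩
  show g ^ (p ^ 1) = 1
  rw [pow_one]
  have hadd := h.add g hg
  refine Equiv.ext fun v => ?_
  set w := g v - v with hw
  have hgw : g w = w := by
    have h2 : w.2 = 0 := by simp [hw, hsnd]
    rw [show w = (w.1, 0) from Prod.ext rfl h2]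
    exact hfix _
  have key : ∀ n : ℕ, (g ^ n) v = v + n • w := by
    intro n
    induction n with
    | zero => simp
    | succ n ih =>
      have hn : g (n • w) = n • w := by
        clear ih
        induction n with
        | zero => simpa using hadd.map_zero
        | succ n ihn => rw [succ_nsmul, hadd, ihn, hgw]
      rw [pow_succ', Perm.mul_apply, ih, hadd, hn, succ_nsmul]
      rw [show g v = v + w by simp [hw]]
      abel
  rw [key, Perm.one_apply]
  ext <;> simp [CharP.cast_eq_zero]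

theorem up_mem_kerW (a : F) : up a ∈ kerW G :=
  ⟨h.up_G a, fun t => by simp [up_apply], fun v => by simp [up_apply]⟩

theorem stab_of_norm {g : Perm (F × F)} (hn : ∀ a : F, g * up a * g⁻¹ ∈ U0 F) (hg : g ∈ G)
    (t : F) : (g (t, 0)).2 = 0 := by
  obtain ⟨σ, d, e, hs⟩ := exists_semi (h.add g hg) hn
  exact hs.stab t

theorem surj_line {g : Perm (F × F)} (hg : ∀ t : F, (g (t, 0)).2 = 0) (t : F) :
    ∃ s, g (s, 0) = (t, 0) := by
  have hinj : Function.Injective fun t : F => (g (t, 0)).1 := by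
    intro s t hst
    have : g (s, 0) = g (t, 0) := Prod.ext hst (by rw [hg, hg])
    exact congrArg Prod.fst (g.injective this)
  obtain ⟨s, hs⟩ := Finite.injective_iff_surjective.1 hinj t
  exact ⟨s, Prod.ext hs (hg s)⟩

/-- A conjugating element for a subgroup containing the root group stabilizes it. -/
theorem exists_norm_conj {Q : Subgroup (Perm (F × F))} (hQ : Q ≤ G) (hQp : IsPGroup p Q)
    (hU : ∀ a, up a ∈ Q) :
    ∃ k ∈ G, (∀ x ∈ Q, k * x * k⁻¹ ∈ P) ∧ (∀ a, k * up a * k⁻¹ ∈ U0 F) ∧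
      ∀ x : Perm (F × F), k * x * k⁻¹ ∈ U0 F → x ∈ U0 F := by
  obtain ⟨k, hk, hkP⟩ := h.conj Q hQ hQp
  have hn : ∀ a, k * up a * k⁻¹ ∈ U0 F := fun a => h.weak hk (fun b => hkP _ (hU b)) a
  refine ⟨k, hk, hkP, hn, fun x hx => ?_⟩
  choose θ hθ using fun a => mem_U0.1 (hn a)
  have hinj : Function.Injective θ := by
    intro a b hab
    have := hθ a
    rw [hab, hθ b] at this
    exact up_injective (mul_left_cancel (mul_right_cancel this)).symm
  obtain ⟨c, hc⟩ := mem_U0.1 hx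
  obtain ⟨a, rfl⟩ := Finite.injective_iff_surjective.1 hinj c
  rw [hθ a] at hc
  exact mem_U0.2 ⟨a, mul_left_cancel (mul_right_cancel hc)⟩

theorem kerW_le : kerW G ≤ U0 F := by
  obtain ⟨k, hk, hkP, hn, hback⟩ :=
    h.exists_norm_conj (Q := kerW G) (fun x hx => hx.1) h.isPGroup_kerW h.up_mem_kerW
  intro x hx
  refine hback x (h.P_pointwise (hkP x hx) fun t => ?_)
  obtain ⟨s, hs⟩ := h.surj_line (h.stab_of_norm hn hk) t
  rw [← hs]
  simp [((h.mem_kerW).1 hx).2.1]

/-- An element of `G` stabilizing the line normalizes the root group. -/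
theorem stab_norm {g : Perm (F × F)} (hg : g ∈ G) (hW : ∀ t : F, (g (t, 0)).2 = 0) (a : F) :
    g * up a * g⁻¹ ∈ U0 F := by
  refine h.kerW_le ⟨mul_mem (mul_mem hg (h.up_G a)) (inv_mem hg), fun t => ?_, fun v => ?_⟩
  · obtain ⟨s, hs⟩ := h.surj_line hW t
    rw [← hs]
    simp [up_apply]
  · rcases hw : g⁻¹ v with ⟨t, y⟩
    have hv : v = g (t, y) := by rw [← hw, apply_inv_eq]
    rw [hv]
    simp only [Perm.mul_apply, inv_apply_eq, up_apply]
    rw [(h.add g hg).split, (h.add g hg).split t y]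
    simp [hW]

/-- A `p`-subgroup normalizing the root group is conjugate into `P` by a normalizing element. -/
theorem enlarge {R : Subgroup (Perm (F × F))} (hR : R ≤ G) (hRp : IsPGroup p R)
    (hRn : ∀ r ∈ R, ∀ a, r * up a * r⁻¹ ∈ U0 F) :
    ∃ k ∈ G, (∀ x ∈ R, k * x * k⁻¹ ∈ P) ∧ ∀ x : Perm (F × F), k * x * k⁻¹ ∈ U0 F → x ∈ U0 F := by
  have hle : R ≤ normalizer (U0 F : Set (Perm (F × F))) := by
    intro r hr
    refine mem_normalizer_iff.2 fun x => ⟨fun hx => ?_, fun hx => ?_⟩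
    · obtain ⟨a, rfl⟩ := mem_U0.1 hx
      exact hRn r hr a
    · obtain ⟨a, ha⟩ := mem_U0.1 hx
      have := hRn r⁻¹ (inv_mem hr) a
      rw [ha] at this
      simpa [mul_assoc] using this
  obtain ⟨k, hk, hkP, -, hback⟩ := h.exists_norm_conj (Q := R ⊔ U0 F) (sup_le hR h.U0_le)
    (hRp.to_sup_of_normal_right' isPGroup_U0 hle) (fun a => mem_sup_right (up_mem a))
  exact ⟨k, hk, fun x hx => hkP x (mem_sup_left hx), hback⟩

/-- Root elements in `P` lie in the root group. -/
theorem root_mem (h4 : Nat.card F ≠ 4) {g : Perm (F × F)} (hg : g ∈ G) (a : F)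
    (hP : g * up a * g⁻¹ ∈ P) : g * up a * g⁻¹ ∈ U0 F := by
  by_cases hp : p = 2
  swap
  · exact h.quad_linear hp hP (quad (h.add g hg) a)
  by_contra hxU
  obtain ⟨σ, d, e, hs⟩ := h.P_semi hP
  have hσ : σ ≠ RingEquiv.refl F := fun hσ => hxU (h.semi_refl hP hs hσ)
  have ha : a ≠ 0 := by
    rintro rfl
    refine hxU ?_
    rw [up_zero]
    simpa using one_mem (U0 F)
  set x := g * up a * g⁻¹ with hx
  clear_value x
  have hx2 : x * x = 1 := by
    rw [hx, show g * up a * g⁻¹ * (g * up a * g⁻¹) = g * (up a * up a) * g⁻¹ by group, up_two a hp]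
    group
  have hxinv : x⁻¹ = x := inv_eq_of_mul_eq_one_right hx2
  choose θ hθ using fun b => mem_U0.1 (h.P_norm hP b)
  let f : F →+ F :=
    AddMonoidHom.mk' (fun b => θ b + b) fun b c => by
      have hadd : θ (b + c) = θ b + θ c := by
        apply up_injective
        rw [hθ, ← up_mul b c, ← up_mul (θ b) (θ c), hθ, hθ]
        group
      rw [hadd]
      ring
  have hinv : ∀ b, θ (θ b) = b := by
    intro b
    apply up_injective
    rw [hθ, hθ, hxinv]
    calc x * (x * up b * x) * x = (x * x) * up b * (x * x) := by group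
      _ = up b := by rw [hx2, one_mul, mul_one]
  have hadd : ∀ b c, θ (b + c) = θ b + θ c := fun b c => by
    apply up_injective
    rw [hθ, ← up_mul b c, ← up_mul (θ b) (θ c), hθ, hθ]
    group
  have two0 : ∀ z : F, z + z = 0 := fun z => by
    subst hp
    exact CharTwo.add_self_eq_zero z
  have hrange : f.range ≤ f.ker := by
    rintro _ ⟨b, rfl⟩
    show θ (θ b + b) + (θ b + b) = 0
    rw [hadd, hinv]
    linear_combination two0 b + two0 (θ b)
  obtain ⟨c, hc, hσb⟩ : ∃ c : F, σ c ≠ c ∧ c ≠ 0 := by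
    by_contra hall
    push Not at hall
    refine hσ (RingEquiv.ext fun c => ?_)
    by_contra hne
    have h0 := hall c hne
    subst h0
    exact hne (map_zero σ)
  have hF : 4 < Nat.card F := by
    have hc1 : c ≠ 1 := fun h1 => hc (by rw [h1, map_one])
    have hσ1 : σ c ≠ 1 := fun h1 => hc1 (σ.injective (h1.trans (map_one σ).symm))
    have hσ0 : σ c ≠ 0 := (map_ne_zero σ).2 hσb
    classical
    have : ({0, 1, c, σ c} : Finset F).card = 4 := by
      rw [Finset.card_insert_of_notMem, Finset.card_insert_of_notMem, Finset.card_pair (Ne.symm hc)]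
      · simp [Ne.symm hc1, Ne.symm hσ1]
      · simp [Ne.symm hσb, Ne.symm hσ0]
    have h' := Finset.card_le_univ ({0, 1, c, σ c} : Finset F)
    rw [this, ← Nat.card_eq_fintype_card] at h'
    omega
  have hker : 3 ≤ Nat.card f.ker := by
    have h1 : Nat.card f.range ≤ Nat.card f.ker := Nat.card_le_card_of_injective
      (AddSubgroup.inclusion hrange) (AddSubgroup.inclusion_injective hrange)
    have h2 : Nat.card F = Nat.card f.range * Nat.card f.ker := by
      rw [AddSubgroup.card_eq_card_quotient_mul_card_addSubgroup f.ker,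
        Nat.card_congr (QuotientAddGroup.quotientKerEquivRange f).toEquiv]
    by_contra hlt
    push Not at hlt
    have : Nat.card F ≤ 2 * 2 := h2 ▸ Nat.mul_le_mul (by omega) (by omega)
    omega
  obtain ⟨b₁, hb₁, b₂, hb₂, hb⟩ : ∃ b₁ : f.ker, b₁ ≠ 0 ∧ ∃ b₂ : f.ker, b₂ ≠ 0 ∧ b₁ ≠ b₂ := by
    classical
    haveI : Fintype f.ker := Fintype.ofFinite _
    rw [Nat.card_eq_fintype_card] at hker
    obtain ⟨b₁, hb₁, b₂, hb₂, hne⟩ := Finset.one_lt_card.1
      (show 1 < (Finset.univ.erase (0 : f.ker)).card by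
        rw [Finset.card_erase_of_mem (Finset.mem_univ _), Finset.card_univ]; omega)
    exact ⟨b₁, (Finset.mem_erase.1 hb₁).1, b₂, (Finset.mem_erase.1 hb₂).1, hne⟩
  have hcomm : ∀ b : f.ker, x * up (b : F) = up (b : F) * x := by
    intro b
    have h1 : θ (b : F) = b := by
      have h0 : θ (b : F) + b = 0 := b.2
      linear_combination h0 - two0 (b : F)
    have h2 := hθ (b : F)
    rw [h1] at h2
    exact (eq_mul_inv_iff_mul_eq.1 h2).symm
  let R : Subgroup (Perm (F × F)) :=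
    { carrier := {r | ∃ b : f.ker, g⁻¹ * up (b : F) * g = r}
      one_mem' := ⟨0, by rw [ZeroMemClass.coe_zero, up_zero]; group⟩
      mul_mem' := by
        rintro _ _ ⟨b, rfl⟩ ⟨c, rfl⟩
        exact ⟨b + c, by rw [AddMemClass.coe_add, ← up_mul]; group⟩
      inv_mem' := by
        rintro _ ⟨b, rfl⟩
        exact ⟨-b, by rw [NegMemClass.coe_neg, ← up_inv]; group⟩ }
  have hRG : R ≤ G := by
    rintro _ ⟨b, rfl⟩
    exact mul_mem (mul_mem (inv_mem hg) (h.up_G _)) hg
  have hRp : IsPGroup p R := by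
    rintro ⟨_, b, rfl⟩
    refine ⟨1, Subtype.ext ?_⟩
    show (g⁻¹ * up (b : F) * g) ^ (p ^ 1) = 1
    subst hp
    rw [pow_one, sq, show g⁻¹ * up (b : F) * g * (g⁻¹ * up (b : F) * g) =
      g⁻¹ * (up (b : F) * up (b : F)) * g by group, up_two _ rfl]
    group
  have hRn : ∀ r ∈ R, ∀ a', r * up a' * r⁻¹ ∈ U0 F := by
    rintro _ ⟨b, rfl⟩ a'
    refine h.stab_norm (hRG ⟨b, rfl⟩) (fun t => ?_) a'
    have h1 : x (up (b : F) (g (t, 0))) = up (b : F) (g (t, 0)) := by
      rw [← Perm.mul_apply, hcomm, Perm.mul_apply]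
      simp [hx, up_apply]
    have h2 : up a ((g⁻¹ * up (b : F) * g) (t, 0)) = (g⁻¹ * up (b : F) * g) (t, 0) := by
      apply g.injective
      simpa [hx] using h1
    exact (up_fix ha).1 h2
  obtain ⟨k, hk, hkP, hback⟩ := h.enlarge hRG hRp hRn
  set y : f.ker → Perm (F × F) := fun b => k * (g⁻¹ * up (b : F) * g) * k⁻¹ with hy
  have hyU : ∀ b : f.ker, b ≠ 0 → y b ∉ U0 F := by
    intro b hb0 hmem
    obtain ⟨c, hc⟩ := mem_U0.1 (hback _ hmem)
    -- `up b` fixes the image of the line, so `g` stabilizes the line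
    rw [hx] at hxU
    refine hxU (h.stab_norm hg (fun t => ?_) a)
    refine (up_fix (fun h0 => hb0 (Subtype.ext h0))).1 ?_
    have h1 : (g⁻¹ * up (b : F) * g) (t, 0) = (t, 0) := by rw [← hc]; simp [up_apply]
    have h2 := congrArg g h1
    simpa using h2
  have hy2 : ∀ b : f.ker, y b * y b = 1 := by
    intro b
    rw [hy]
    dsimp only
    rw [show k * (g⁻¹ * up (b : F) * g) * k⁻¹ * (k * (g⁻¹ * up (b : F) * g) * k⁻¹) =
      k * g⁻¹ * (up (b : F) * up (b : F)) * g * k⁻¹ by group, up_two _ hp]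
    group
  have hyP : ∀ b : f.ker, y b ∈ P := fun b => hkP _ ⟨b, rfl⟩
  obtain ⟨σ₁, d₁, e₁, hs₁⟩ := h.P_semi (hyP b₁)
  obtain ⟨σ₂, d₂, e₂, hs₂⟩ := h.P_semi (hyP b₂)
  have hne1 : σ₁ ≠ RingEquiv.refl F := fun hσ' => hyU b₁ hb₁ (h.semi_refl (hyP b₁) hs₁ hσ')
  have hne2 : σ₂ ≠ RingEquiv.refl F := fun hσ' => hyU b₂ hb₂ (h.semi_refl (hyP b₂) hs₂ hσ')
  have heq : σ₁ = σ₂ := involutive_aut_unique p σ₁ σ₂ (hs₁.sq_eq_one (hy2 b₁))
    (hs₂.sq_eq_one (hy2 b₂)) hne1 hne2
  subst heq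
  have h12 := h.same_twist (hyP b₁) (hyP b₂) hs₁ hs₂
  refine hyU (-b₂ + b₁) ?_ ?_
  · intro h0
    exact hb (neg_add_eq_zero.1 h0).symm
  · convert h12 using 1
    simp only [hy, AddMemClass.coe_add, NegMemClass.coe_neg, ← up_mul, ← up_inv]
    group

/-- Distinct conjugate lines meet trivially. -/
theorem lines (h4 : Nat.card F ≠ 4) {g : Perm (F × F)} (hg : g ∈ G) {t₁ : F} (ht₁ : t₁ ≠ 0)
    (hmeet : (g (t₁, 0)).2 = 0) (t : F) : (g (t, 0)).2 = 0 := by
  classical
  by_contra hbad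
  let bad : Finset (Perm (F × F)) := Finset.univ.filter fun g =>
    g ∈ G ∧ (∃ t, t ≠ 0 ∧ (g (t, 0)).2 = 0) ∧ ∃ t, (g (t, 0)).2 ≠ 0
  let N : Perm (F × F) → ℕ := fun g => (Finset.univ.filter fun t : F => (g (t, 0)).2 = 0).card
  obtain ⟨g, hgb, hmax⟩ := bad.exists_max_image N ⟨g, by
    simp only [bad, Finset.mem_filter, Finset.mem_univ, true_and]
    exact ⟨hg, ⟨t₁, ht₁, hmeet⟩, t, hbad⟩⟩
  simp only [bad, Finset.mem_filter, Finset.mem_univ, true_and] at hgb
  obtain ⟨hg, ⟨t₁, ht₁, hj⟩, t₀, ht₀⟩ := hgb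
  have hadd := h.add g hg
  set j := (g (t₁, 0)).1 with hjdef
  set b := g (t₀, 0) with hb
  set r := g⁻¹ * up (j / b.2) * g with hr
  have hrG : r ∈ G := mul_mem (mul_mem (inv_mem hg) (h.up_G _)) hg
  have hr0 : r (t₀, 0) = (t₀ + t₁, 0) := by
    apply g.injective
    rw [hr, Perm.mul_apply, Perm.mul_apply, apply_inv_eq, ← hb, up_apply,
      show ((t₀ + t₁, 0) : F × F) = (t₀, 0) + (t₁, 0) by simp, hadd, ← hb,
      show g (t₁, 0) = (j, 0) from Prod.ext rfl hj, div_mul_cancel₀ _ ht₀]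
    ext <;> simp
  have hrfix : ∀ t, (g (t, 0)).2 = 0 → r (t, 0) = (t, 0) := by
    intro t ht
    apply g.injective
    rw [hr, Perm.mul_apply, Perm.mul_apply, apply_inv_eq, up_apply, ht, mul_zero, add_zero]
    exact Prod.ext rfl ht.symm
  have hlt : N g < N r := by
    apply Finset.card_lt_card
    rw [Finset.ssubset_iff_of_subset (fun t ht => by
      simp only [Finset.mem_filter, Finset.mem_univ, true_and] at ht ⊢
      rw [hrfix t ht])]
    exact ⟨t₀, by simp [hr0], by simpa using ht₀⟩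
  have hstab : ∀ t, (r (t, 0)).2 = 0 := by
    by_contra hall
    push Not at hall
    have := hmax r (by
      simp only [bad, Finset.mem_filter, Finset.mem_univ, true_and]
      exact ⟨hrG, ⟨t₁, ht₁, by rw [hrfix t₁ hj]⟩, hall⟩)
    omega
  -- `r` normalizes the root group, so lies in it
  have hrp : r ^ p = 1 := by
    rw [show r = g⁻¹ * up (j / b.2) * (g⁻¹)⁻¹ by rw [hr, inv_inv], conj_pow, up, ← map_pow,
      ZJ.upper_pow, CharP.cast_eq_zero, zero_mul, ZJ.upper_zero, map_one]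
    group
  have hzp : IsPGroup p (zpowers r) := by
    rintro ⟨x, hx⟩
    obtain ⟨n, rfl⟩ := mem_zpowers_iff.1 hx
    refine ⟨1, Subtype.ext ?_⟩
    show (r ^ n) ^ (p ^ 1) = 1
    rw [pow_one, ← zpow_natCast, ← zpow_mul, mul_comm, zpow_mul, zpow_natCast, hrp, one_zpow]
  have hzG : zpowers r ≤ G := zpowers_le.2 hrG
  have hstab' : ∀ x ∈ zpowers r, ∀ t, (x (t, 0)).2 = 0 := by
    intro x hx
    have : zpowers r ≤ ({ carrier := {x | ∀ t, (x (t, 0)).2 = 0}
                          one_mem' := fun _ => rfl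
                          mul_mem' := fun {a b} ha hb t => by
                            rw [Perm.mul_apply, show b (t, 0) = ((b (t, 0)).1, 0) from Prod.ext rfl (hb t)]
                            exact ha _
                          inv_mem' := fun {a} ha t => by
                            obtain ⟨s, hs⟩ := h.surj_line ha t
                            rw [← hs, inv_apply_eq] } : Subgroup (Perm (F × F))) :=
      zpowers_le.2 hstab
    exact this hx
  obtain ⟨k, hk, hkP, hback⟩ := h.enlarge hzG hzp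
    (fun x hx a => h.stab_norm (hzG hx) (hstab' x hx) a)
  have hrU : r ∈ U0 F := by
    refine hback r ?_
    have e : k * r * k⁻¹ = k * g⁻¹ * up (j / b.2) * (k * g⁻¹)⁻¹ := by rw [hr]; group
    rw [e]
    exact h.root_mem h4 (mul_mem hk (inv_mem hg)) _ (e ▸ hkP r (mem_zpowers r))
  rw [fix_of_mem_U0 hrU] at hr0
  exact ht₁ (by simpa using congrArg Prod.fst hr0)

omit h in
theorem exists_first (v : F × F) (hv : v ≠ 0) : ∃ A : ZJ.SL2 F, lin A (1, 0) = v := by
  obtain ⟨B, hB⟩ := NatSL2.exists_first_column (v := ![v.1, v.2]) (fun h0 => hv (Prod.ext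
    (congrFun h0 0) (congrFun h0 1)))
  refine ⟨B, ?_⟩
  have h0 := congrFun hB 0
  have h1 := congrFun hB 1
  simp [Matrix.mulVec, dotProduct, Fin.sum_univ_two] at h0 h1
  rw [lin_apply]
  exact Prod.ext (by simpa using h0) (by simpa using h1)

theorem conj_up (h4 : Nat.card F ≠ 4) {g : Perm (F × F)} (hg : g ∈ G) (a : F) :
    ∃ B, g * up a * g⁻¹ = lin B := by
  obtain ⟨A, hA⟩ := exists_first (g (1, 0)) (fun h0 => by
    have := g.injective (h0.trans (h.add g hg).map_zero.symm)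
    exact one_ne_zero (congrArg Prod.fst this))
  have hg' : lin A⁻¹ * g ∈ G := mul_mem (h.le _) hg
  have h1 : ((lin A⁻¹ * g) (1, 0)).2 = 0 := by
    rw [Perm.mul_apply, ← hA, ← Perm.mul_apply, ← map_mul, inv_mul_cancel, map_one, Perm.one_apply]
  obtain ⟨b, hb⟩ := mem_U0.1 (h.stab_norm hg' (h.lines h4 hg' one_ne_zero h1) a)
  refine ⟨A * ZJ.upper b * A⁻¹, ?_⟩
  rw [map_mul, map_mul, ← up, hb, map_inv]
  group

/-- `SL₂(F)` is normalized unless `|F| = 4`. -/
theorem normalizes (h4 : Nat.card F ≠ 4) {g : Perm (F × F)} (hg : g ∈ G) (A : ZJ.SL2 F) :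
    ∃ B, g * lin A * g⁻¹ = lin B := by
  let w : ZJ.SL2 F := ⟨!![0, -1; 1, 0], by simp [Matrix.det_fin_two]⟩
  let S : Subgroup (ZJ.SL2 F) :=
    ((lin : ZJ.SL2 F →* Perm (F × F)).range.comap ((MulAut.conj g).toMonoidHom.comp lin))
  suffices A ∈ S by
    obtain ⟨B, hB⟩ := this
    exact ⟨B, hB.symm⟩
  refine sl2_gen A S (fun a => ?_) (fun a => ?_)
  · obtain ⟨B, hB⟩ := h.conj_up h4 hg a
    exact ⟨B, hB.symm⟩
  · have hw : ZJ.lower a = w * ZJ.upper (-a) * w⁻¹ := by
      obtain ⟨i00, i01, i10, i11⟩ := ZJ.sl2_inv w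
      apply ZJ.sl2_ext <;>
        simp only [ZJ.sl2_mul, i00, i01, i10, i11, ZJ.upper_00, ZJ.upper_01, ZJ.upper_10,
          ZJ.upper_11, ZJ.lower_00, ZJ.lower_01, ZJ.lower_10, ZJ.lower_11] <;>
        simp [w]
    obtain ⟨B, hB⟩ := h.conj_up h4 (mul_mem hg (h.le w)) (-a)
    refine ⟨B, ?_⟩
    rw [← hB]
    simp [hw, up, mul_assoc]

end Setup

end CfsgLib.NatEmbed
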