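import Cfsg.Agent.NatEmbed.Basic
import Mathlib.FieldTheory.Finite.GaloisField
import Mathlib.GroupTheory.SpecificGroups.Cyclic.Basic

/-!
Additive groups containing `SL₂(F)` in which a Sylow subgroup normalizes `SL₂(F)`.
-/

set_option autoImplicit false
set_option linter.unusedSectionVars false

namespace CfsgLib.NatEmbed

open Equiv Subgroup

variable {F : Type*} [Field F] [Fintype F] {p : ℕ} [Fact p.Prime] [CharP F p]

/-- The hypotheses: `G` is additive, contains `SL₂(F)`, and `P` is a Sylow `p`-subgroup of `G`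
containing the root group and normalizing `SL₂(F)`. -/
structure Setup (p : ℕ) (G P : Subgroup (Perm (F × F))) : Prop where
  add : ∀ g ∈ G, IsAdd g
  le : ∀ A : ZJ.SL2 F, lin A ∈ G
  pgrp : IsPGroup p P
  pG : P ≤ G
  pN : ∀ x ∈ P, ∀ A : ZJ.SL2 F, ∃ B, x * lin A * x⁻¹ = lin B
  upP : ∀ a : F, up a ∈ P
  conj : ∀ Q : Subgroup (Perm (F × F)), Q ≤ G → IsPGroup p Q → ∃ k ∈ G, ∀ x ∈ Q, k * x * k⁻¹ ∈ P

theorem involutive_aut_unique {F : Type*} [Field F] [Fintype F] (p : ℕ) [Fact p.Prime] [CharP F p]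
    (σ τ : F ≃+* F) (hσ : ∀ a, σ (σ a) = a) (hτ : ∀ a, τ (τ a) = a)
    (h1 : σ ≠ RingEquiv.refl F) (h2 : τ ≠ RingEquiv.refl F) : σ = τ := by
  classical
  letI := ZMod.algebra F p
  let A : (F ≃+* F) → (F ≃ₐ[ZMod p] F) := fun s => AlgEquiv.ofRingEquiv (f := s) fun x =>
    RingHom.congr_fun
      (Subsingleton.elim ((s : F →+* F).comp (algebraMap (ZMod p) F)) (algebraMap (ZMod p) F)) x
  by_contra hne
  have hA : ∀ s t, A s = A t → s = t := fun s t h => RingEquiv.ext fun a => AlgEquiv.congr_fun h a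
  have hA1 : A (RingEquiv.refl F) = 1 := AlgEquiv.ext fun a => rfl
  have hsub : ({1, A σ, A τ} : Finset (F ≃ₐ[ZMod p] F)) ⊆ Finset.univ.filter (fun g => g ^ 2 = 1) := by
    intro g hg
    simp only [Finset.mem_insert, Finset.mem_singleton] at hg
    simp only [Finset.mem_filter, Finset.mem_univ, true_and, sq]
    rcases hg with rfl | rfl | rfl
    · simp
    · exact AlgEquiv.ext hσ
    · exact AlgEquiv.ext hτ
  have h3 : ({1, A σ, A τ} : Finset (F ≃ₐ[ZMod p] F)).card = 3 := by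
    refine Finset.card_eq_three.2 ⟨1, A σ, A τ, ?_, ?_, ?_, rfl⟩
    · exact fun h => h1 (hA _ _ (h.symm.trans hA1.symm))
    · exact fun h => h2 (hA _ _ (h.symm.trans hA1.symm))
    · exact fun h => hne (hA _ _ h)
  have h4 := IsCyclic.card_pow_eq_one_le (α := F ≃ₐ[ZMod p] F) (n := 2) (by norm_num)
  have h5 := Finset.card_le_card hsub
  omega

theorem isPGroup_U0 : IsPGroup p (U0 F) := by
  rintro ⟨x, hx⟩
  obtain ⟨a, rfl⟩ := mem_U0.1 hx
  refine ⟨1, Subtype.ext ?_⟩
  show up a ^ (p ^ 1) = 1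
  rw [pow_one, up, ← map_pow, ZJ.upper_pow, CharP.cast_eq_zero, zero_mul, ZJ.upper_zero, map_one]

theorem eq_upper_of_le {T : Subgroup (ZJ.SL2 F)} (hT : IsPGroup p T) (hle : NatSL2.uniF F ≤ T) :
    T = NatSL2.uniF F := by
  let S : Sylow p (ZJ.SL2 F) :=
    (NatSL2.isPGroup_uniF (F := F) (p := p)).toSylow (NatSL2.not_dvd_index_uniF (F := F) (p := p))
  exact S.3 hT hle

namespace Setup

variable {G P : Subgroup (Perm (F × F))} (h : Setup p G P)
include h

theorem up_G (a : F) : up a ∈ G := h.le _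

theorem U0_le : U0 F ≤ G := fun x hx => by
  obtain ⟨a, rfl⟩ := mem_U0.1 hx
  exact h.up_G a

theorem P_norm {x : Perm (F × F)} (hx : x ∈ P) (a : F) : x * up a * x⁻¹ ∈ U0 F := by
  obtain ⟨B, hB⟩ := h.pN x hx (ZJ.upper a)
  have hT : P.comap lin = NatSL2.uniF F := by
    refine eq_upper_of_le (h.pgrp.comap_of_injective lin lin_injective) fun A hA => ?_
    rw [NatSL2.uniF_eq_upper hA]
    exact h.upP _
  have hBP : B ∈ P.comap lin := by
    show lin B ∈ P
    rw [← hB]
    exact mul_mem (mul_mem hx (h.upP a)) (inv_mem hx)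
  rw [hT] at hBP
  rw [up, hB, NatSL2.uniF_eq_upper hBP]
  exact up_mem _

theorem P_semi {x : Perm (F × F)} (hx : x ∈ P) : ∃ σ d e, Semi x σ d e :=
  exists_semi (h.add x (h.pG hx)) (h.P_norm hx)

theorem one_of_pow (k : ℕ) {d : F} (hd : d ^ (p ^ k) = 1) : d = 1 := by
  have h1 : (d - 1) ^ (p ^ k) = 0 := by
    rw [sub_pow_char_pow, hd, one_pow, sub_self]
  exact sub_eq_zero.1 (eq_zero_of_pow_eq_zero h1)

theorem P_linear {x : Perm (F × F)} {d e : F} (hx : x ∈ P) (hs : Semi x (RingEquiv.refl F) d e) :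
    x ∈ U0 F := by
  obtain ⟨k, hk⟩ := h.pgrp ⟨x, hx⟩
  have hk' : x ^ (p ^ k) = 1 := congrArg Subtype.val hk
  have hd : d = 1 := by
    refine h.one_of_pow k ?_
    have h1 := hs.pow_fst (p ^ k) 1
    rw [hk', Perm.one_apply] at h1
    simpa using (congrArg Prod.fst h1).symm
  have he : e = 1 := by
    refine h.one_of_pow k ?_
    have h1 := hs.pow_snd (p ^ k) 0 1
    rw [hk', Perm.one_apply] at h1
    simpa using h1.symm
  subst hd he
  have hx0 : ∀ t, x (t, 0) = (t, 0) := fun t => by simpa using hs.2.2.1 t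
  obtain ⟨B, hB⟩ := h.pN x hx (ZJ.lower 1)
  set γ : F → F := fun y => (x (0, y)).1 with hγ
  have hxy : ∀ t y, x (t, y) = (t + γ y, y) := by
    intro t y
    refine Prod.ext ?_ (by simpa using hs.2.2.2 t y)
    rw [(h.add x (h.pG hx)).split, hx0]
    rfl
  have hγc : ∀ y, γ y = (1 - B 1 1) * y := by
    intro y
    have h1 := congrArg (fun f : Perm (F × F) => (f (0, y)).2) hB
    simp only [Perm.mul_apply, lin_apply] at h1
    have h2 : x⁻¹ (0, y) = (-γ y, y) := by
      apply x.injective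
      rw [apply_inv_eq, hxy]
      simp
    rw [h2] at h1
    simp only [hxy, ZJ.lower_00, ZJ.lower_01, ZJ.lower_10, ZJ.lower_11] at h1
    linear_combination -h1
  refine mem_U0.2 ⟨1 - B 1 1, Equiv.ext fun v => ?_⟩
  obtain ⟨t, y⟩ := v
  rw [up_apply, hxy, hγc]

theorem semi_refl {x : Perm (F × F)} (hx : x ∈ P) {σ : F ≃+* F} {d e : F} (hs : Semi x σ d e)
    (hσ : σ = RingEquiv.refl F) : x ∈ U0 F := h.P_linear hx (hσ ▸ hs)

theorem P_pointwise {x : Perm (F × F)} (hx : x ∈ P) (hfix : ∀ t, x (t, 0) = (t, 0)) : x ∈ U0 F := by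
  obtain ⟨σ, d, e, hs⟩ := h.P_semi hx
  have hd : d = 1 := by
    have := hs.2.2.1 1
    rw [hfix, map_one, mul_one] at this
    exact (congrArg Prod.fst this).symm
  refine h.semi_refl hx hs (RingEquiv.ext fun t => ?_)
  have := hs.2.2.1 t
  rw [hfix, hd, one_mul] at this
  exact (congrArg Prod.fst this).symm

theorem same_twist {x y : Perm (F × F)} (hx : x ∈ P) (hy : y ∈ P) {σ : F ≃+* F} {d e d' e' : F}
    (hsx : Semi x σ d e) (hsy : Semi y σ d' e') : y⁻¹ * x ∈ U0 F := by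
  have hz : y⁻¹ * x ∈ P := mul_mem (inv_mem hy) hx
  obtain ⟨τ, d'', e'', hsz⟩ := h.P_semi hz
  refine h.semi_refl hz hsz (RingEquiv.ext fun t => ?_)
  have hrel : ∀ t, d' * σ (d'' * τ t) = d * σ t := by
    intro t
    have h1 : y ((y⁻¹ * x) (t, 0)) = x (t, 0) := by simp
    rw [hsz.2.2.1, hsy.2.2.1, hsx.2.2.1] at h1
    exact congrArg Prod.fst h1
  have h1 := hrel 1
  have h2 := hrel t
  simp only [map_one, mul_one, map_mul] at h1 h2
  show τ t = t
  apply σ.injective
  rw [← h1] at h2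
  exact mul_left_cancel₀ (mul_ne_zero hsy.1 ((map_ne_zero σ).2 hsz.1)) (by linear_combination h2)

omit h in
/-- Root elements act quadratically. -/
theorem quad {g : Perm (F × F)} (hg : IsAdd g) (a : F) (v : F × F) :
    let x := g * up a * g⁻¹
    x (x v) + v = x v + x v := by
  intro x
  rcases hw : g⁻¹ v with ⟨t, y⟩
  have hv : v = g (t, y) := by rw [← hw, apply_inv_eq]
  have hx : ∀ w, x (g w) = g (up a w) := fun w => by simp [x]
  rw [hv, hx, hx, ← hg, ← hg]
  congr 1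
  simp only [up_apply, Prod.mk_add_mk]
  ext <;> simp <;> ring

theorem quad_linear (hp : p ≠ 2) {x : Perm (F × F)} (hx : x ∈ P)
    (hq : ∀ v, x (x v) + v = x v + x v) : x ∈ U0 F := by
  obtain ⟨σ, d, e, hs⟩ := h.P_semi hx
  refine h.semi_refl hx hs (RingEquiv.ext fun a => ?_)
  show σ a = a
  have hq' : ∀ t, d * σ (d * σ t) + t = d * σ t + d * σ t := by
    intro t
    have := congrArg Prod.fst (hq (t, 0))
    simpa [hs.2.2.1] using this
  -- a fixed vector on the line
  obtain ⟨t0, ht0, hfix⟩ : ∃ t0, t0 ≠ 0 ∧ d * σ t0 = t0 := by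
    by_cases h0 : ∀ t, d * σ t = t
    · exact ⟨1, one_ne_zero, h0 1⟩
    · obtain ⟨t, ht⟩ := not_forall.1 h0
      refine ⟨d * σ t - t, sub_ne_zero.2 ht, ?_⟩
      rw [map_sub]
      linear_combination hq' t
  have hQ : ∀ b, σ (σ b) + b = σ b + σ b := by
    intro b
    have h1 := hq' (b * t0)
    simp only [map_mul] at h1
    have h2 : d * σ (d * σ (b * t0)) = σ (σ b) * t0 := by
      calc d * σ (d * σ (b * t0)) = σ (σ b) * (d * σ (d * σ t0)) := by simp only [map_mul]; ring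
        _ = σ (σ b) * t0 := by rw [hfix, hfix]
    simp only [map_mul] at h2
    rw [h2] at h1
    have h3 : (σ (σ b) + b) * t0 = (σ b + σ b) * t0 := by
      linear_combination h1 + (2 * σ b) * hfix
    exact mul_right_cancel₀ ht0 h3
  have h1 := hQ a
  have h2 := hQ (a * a)
  simp only [map_mul] at h2
  have h3 : σ (σ a) = 2 * σ a - a := by linear_combination h1
  rw [h3] at h2
  have h4 : (2 : F) * ((σ a - a) * (σ a - a)) = 0 := by linear_combination h2
  have h5 : (2 : F) ≠ 0 := Ring.two_ne_zero (by rw [ringChar.eq F p]; exact hp)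
  exact sub_eq_zero.1 (mul_self_eq_zero.1 ((mul_eq_zero.1 h4).resolve_left h5))

omit h in
theorem up_two (a : F) (hp : p = 2) : up a * up a = 1 := by
  subst hp
  rw [up_mul, CharTwo.add_self_eq_zero, up_zero]

/-- The root group is weakly closed in `P`. -/
theorem weak {g : Perm (F × F)} (hg : g ∈ G) (hP : ∀ a : F, g * up a * g⁻¹ ∈ P) (a : F) :
    g * up a * g⁻¹ ∈ U0 F := by
  have hdiff : ∀ a b : F, (g * up b * g⁻¹)⁻¹ * (g * up a * g⁻¹) = g * up (a - b) * g⁻¹ := by
    intro a b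
    calc (g * up b * g⁻¹)⁻¹ * (g * up a * g⁻¹) = g * ((up b)⁻¹ * up a) * g⁻¹ := by group
      _ = g * up (a - b) * g⁻¹ := by rw [up_inv, up_mul, neg_add_eq_sub]
  by_cases hex : ∃ a : F, a ≠ 0 ∧ g * up a * g⁻¹ ∈ U0 F
  · obtain ⟨a₁, ha₁, hmem⟩ := hex
    obtain ⟨c, hc⟩ := mem_U0.1 hmem
    have hc0 : c ≠ 0 := by
      rintro rfl
      rw [up_zero] at hc
      have h2 : g * up a₁ * g⁻¹ = g * 1 * g⁻¹ := by rw [← hc]; simp
      exact ha₁ (up_eq_one.1 (mul_left_cancel (mul_right_cancel h2)))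
    have hW : ∀ t, (g (t, 0)).2 = 0 := by
      intro t
      refine (up_fix hc0).1 ?_
      rw [hc]
      simp [up_apply]
    have hinj : Function.Injective fun t : F => (g (t, 0)).1 := by
      intro s t hst
      have : g (s, 0) = g (t, 0) := Prod.ext hst (by rw [hW, hW])
      exact congrArg Prod.fst (g.injective this)
    have hsurj := Finite.injective_iff_surjective.1 hinj
    refine h.P_pointwise (hP a) fun t => ?_
    obtain ⟨s, hs⟩ := hsurj t
    have hgs : g (s, 0) = (t, 0) := Prod.ext hs (hW s)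
    rw [← hgs]
    simp [up_apply]
  · exfalso
    push Not at hex
    have hne : ∀ a : F, a ≠ 0 → ∃ σ : F ≃+* F, ∃ d e, Semi (g * up a * g⁻¹) σ d e ∧
        σ ≠ RingEquiv.refl F := by
      intro a ha
      obtain ⟨σ, d, e, hs⟩ := h.P_semi (hP a)
      exact ⟨σ, d, e, hs, fun hσ => hex a ha (h.semi_refl (hP a) hs hσ)⟩
    by_cases hp : p = 2
    · obtain ⟨σ, d, e, hs, hσ⟩ := hne 1 one_ne_zero
      obtain ⟨b, hb⟩ : ∃ b, σ b ≠ b := by
        by_contra hall
        push Not at hall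
        exact hσ (RingEquiv.ext hall)
      have hb0 : b ≠ 0 := fun h0 => hb (by rw [h0, map_zero])
      have hb1 : b ≠ 1 := fun h1 => hb (by rw [h1, map_one])
      obtain ⟨τ, d', e', hs', hτ⟩ := hne b hb0
      have hsq : ∀ a : F, g * up a * g⁻¹ * (g * up a * g⁻¹) = 1 := fun a => by
        rw [show g * up a * g⁻¹ * (g * up a * g⁻¹) = g * (up a * up a) * g⁻¹ by group,
          up_two a hp]
        group
      have hst : τ = σ := involutive_aut_unique p τ σ (hs'.sq_eq_one (hsq b))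
        (hs.sq_eq_one (hsq 1)) hτ hσ
      subst hst
      have := h.same_twist (hP 1) (hP b) hs hs'
      rw [hdiff] at this
      exact hex _ (sub_ne_zero.2 (Ne.symm hb1)) this
    · obtain ⟨σ, d, e, hs, hσ⟩ := hne 1 one_ne_zero
      exact hex 1 one_ne_zero (h.quad_linear hp (hP 1) (quad (h.add g hg) 1))

end Setup

end CfsgLib.NatEmbed
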